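import Cfsg.Agent.H99.ShortPres

/-!
The unipotent radical of `SU₃(q)` from boundedly many relations: a group generated by the
conjugates of `x` under a cyclic group `⟨h⟩`, with centre spanned by the conjugates of
`z = [x, x^a]`, has order at most `q² · q`.
-/

set_option autoImplicit false

namespace Cfsg.Agent.H68.ShortSU

open Cfsg.Agent.H99.ShortPres Polynomial

section Defs

variable {G : Type*} [Group G]

/-- The commutator of `x` with its conjugate by `h ^ i`. -/
def zel (i : ℕ) (h x : G) : G :=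
  x * cnj h x i * x⁻¹ * (cnj h x i)⁻¹

/-- The subgroup generated by the conjugates of `x`, three cosets of `⟨h ^ i⟩`. -/
def wgrp (i : ℕ) (h x : G) : Subgroup G :=
  Subgroup.closure (Set.range fun kn : Fin 3 × ℕ => cnj h x (kn.1.val + i * kn.2))

/-- The subgroup generated by the conjugates of the commutator. -/
def zgrp (i : ℕ) (h x : G) : Subgroup G :=
  Subgroup.closure (Set.range fun n : ℕ => cnj h (zel i h x) n)

theorem map_zel {H : Type*} [Group H] (f : G →* H) (i : ℕ) (h x : G) :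
    f (zel i h x) = zel i (f h) (f x) := by simp [zel, map_cnj]

theorem map_wgrp {H : Type*} [Group H] (f : G →* H) (i : ℕ) (h x : G) :
    (wgrp i h x).map f = wgrp i (f h) (f x) := by
  rw [wgrp, MonoidHom.map_closure, wgrp, ← Set.range_comp]
  congr 2
  funext kn
  exact map_cnj f h x _

theorem map_zgrp {H : Type*} [Group H] (f : G →* H) (i : ℕ) (h x : G) :
    (zgrp i h x).map f = zgrp i (f h) (f x) := by
  rw [zgrp, MonoidHom.map_closure, zgrp, ← Set.range_comp]
  congr 2
  funext n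
  simp [map_cnj, map_zel]

theorem cnj_cnj (g x : G) (m n : ℕ) : cnj g (cnj g x n) m = cnj g x (m + n) :=
  (cnj_add g x m n).symm

theorem cnj_pow_base (g x : G) (i n : ℕ) : cnj (g ^ i) x n = cnj g x (i * n) := by
  simp [cnj, ← pow_mul]

/-- Pair version of `commute_conj_pow`. -/
theorem commute_conj_pow_pair {a b x y : G} (hab : Commute a b)
    (hbx : b * x * b⁻¹ = x * (a * x * a⁻¹)) (hby : b * y * b⁻¹ = y * (a * y * a⁻¹))
    (h0 : Commute x y) (h1 : Commute x (a * y * a⁻¹)) (n : ℕ) : Commute x (cnj a y n) := by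
  induction n using Nat.strong_induction_on with
  | _ n ih =>
    match n with
    | 0 => rw [cnj_zero]; exact h0
    | 1 => simpa [cnj] using h1
    | n + 2 =>
      have key : MulAut.conj b (cnj a y (n + 1)) = cnj a y (n + 1) * cnj a y (n + 2) := by
        have e : b * a ^ (n + 1) = a ^ (n + 1) * b := (hab.pow_left (n + 1)).symm
        have e' : (a ^ (n + 1))⁻¹ * b⁻¹ = b⁻¹ * (a ^ (n + 1))⁻¹ := by
          rw [← mul_inv_rev, e, mul_inv_rev]
        calc MulAut.conj b (cnj a y (n + 1))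
            = (b * a ^ (n + 1)) * y * ((a ^ (n + 1))⁻¹ * b⁻¹) := by
              simp [cnj, mul_assoc]
          _ = a ^ (n + 1) * (b * y * b⁻¹) * (a ^ (n + 1))⁻¹ := by
              rw [e, e']; simp [mul_assoc]
          _ = _ := by
              rw [hby]; simp [cnj, pow_succ, mul_assoc]
      have ex : cnj a x 1 = a * x * a⁻¹ := by simp [cnj]
      have c0 : Commute (x * cnj a x 1) (cnj a y (n + 1) * cnj a y (n + 2)) := by
        have h2 := (ih (n + 1) (by omega)).map (MulAut.conj b)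
        rw [key] at h2
        have e : MulAut.conj b x = x * cnj a x 1 := by rw [MulAut.conj_apply, hbx, ex]
        rwa [e] at h2
      have c1 : Commute (cnj a x 1) (cnj a y (n + 1)) := by
        have h2 := (ih n (by omega)).map (MulAut.conj (a ^ 1))
        rwa [← cnj_eq, ← cnj_add, add_comm 1 n] at h2
      have c2 : Commute (cnj a x 1) (cnj a y (n + 2)) := by
        have h2 := (ih (n + 1) (by omega)).map (MulAut.conj (a ^ 1))
        rwa [← cnj_eq, ← cnj_add, add_comm 1 (n + 1)] at h2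
      have c3 : Commute x (cnj a y (n + 1)) := ih (n + 1) (by omega)
      have c4 : Commute x (cnj a y (n + 1) * cnj a y (n + 2)) := by
        simpa [mul_assoc] using c0.mul_left (c1.mul_right c2).inv_left
      simpa using c3.inv_right.mul_right c4

theorem conj_cnj {a b g y : G} (hga : Commute g a) (hgb : Commute g b)
    (hby : b * y * b⁻¹ = y * (a * y * a⁻¹)) :
    b * (g * y * g⁻¹) * b⁻¹ = g * y * g⁻¹ * (a * (g * y * g⁻¹) * a⁻¹) := by
  have e1 : b * (g * y * g⁻¹) * b⁻¹ = g * (b * y * b⁻¹) * g⁻¹ := by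
    have : b⁻¹ * g⁻¹ = g⁻¹ * b⁻¹ := by rw [← mul_inv_rev, ← mul_inv_rev, hgb.eq]
    calc b * (g * y * g⁻¹) * b⁻¹ = (b * g) * y * (g⁻¹ * b⁻¹) := by simp [mul_assoc]
      _ = (g * b) * y * (b⁻¹ * g⁻¹) := by rw [this, hgb.eq]
      _ = _ := by simp [mul_assoc]
  have e2 : a * (g * y * g⁻¹) * a⁻¹ = g * (a * y * a⁻¹) * g⁻¹ := by
    have : a⁻¹ * g⁻¹ = g⁻¹ * a⁻¹ := by rw [← mul_inv_rev, ← mul_inv_rev, hga.eq]
    calc a * (g * y * g⁻¹) * a⁻¹ = (a * g) * y * (g⁻¹ * a⁻¹) := by simp [mul_assoc]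
      _ = (g * a) * y * (a⁻¹ * g⁻¹) := by rw [this, hga.eq]
      _ = _ := by simp [mul_assoc]
  rw [e1, e2, hby]
  simp [mul_assoc]

end Defs

/-- The relations of the radical. -/
structure RadRels {G : Type*} [Group G] (h x : G) (i j p : ℕ) (P Q : (ZMod p)[X]) : Prop where
  fin : ∃ N : ℕ, 0 < N ∧ h ^ N = 1
  az : Commute (h ^ i) (zel i h x)
  sz : ∀ k : Fin 3, Commute (cnj h x k) (zel i h x)
  top : cnj h x 3 ∈ wgrp i h x
  bx : ∃ w ∈ zgrp i h x, cnj h x j = x * cnj h x i * w
  comm : ∀ k : Fin 2, ∀ e : Fin 2, ∃ w ∈ zgrp i h x,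
    x * cnj h x (k.val + 1 + i * e.val) = cnj h x (k.val + 1 + i * e.val) * x * w
  xp : x ^ p ∈ zgrp i h x
  minx : wordP h x P ∈ zgrp i h x
  minz : wordP h (zel i h x) Q = 1

namespace RadRels

variable {G : Type*} [Group G] {h x : G} {i j p : ℕ} {P Q : (ZMod p)[X]}
  (D : RadRels h x i j p P Q)

include D

theorem cnj_z (n : ℕ) : cnj h (zel i h x) (i * n) = zel i h x := by
  rw [← cnj_pow_base, cnj, (D.az.pow_left n).eq, mul_inv_cancel_right]

theorem conj_gen_a {w : G} (hw : w ∈ wgrp i h x) (n : ℕ) :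
    MulAut.conj (h ^ (i * n)) w ∈ wgrp i h x := by
  have : wgrp i h x ≤ (wgrp i h x).comap (MulAut.conj (h ^ (i * n))).toMonoidHom := by
    refine (Subgroup.closure_le _).mpr ?_
    rintro _ ⟨⟨k, m⟩, rfl⟩
    refine Subgroup.subset_closure ⟨⟨k, n + m⟩, ?_⟩
    show cnj h x _ = MulAut.conj (h ^ (i * n)) (cnj h x _)
    rw [← cnj_add, show k.val + i * (n + m) = i * n + (k.val + i * m) by ring]
  exact this hw

theorem conj_h {w : G} (hw : w ∈ wgrp i h x) (n : ℕ) :
    MulAut.conj (h ^ n) w ∈ wgrp i h x := by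
  have h1 : wgrp i h x ≤ (wgrp i h x).comap (MulAut.conj h).toMonoidHom := by
    refine (Subgroup.closure_le _).mpr ?_
    rintro _ ⟨⟨k, m⟩, rfl⟩
    show MulAut.conj h (cnj h x _) ∈ wgrp i h x
    rw [show MulAut.conj h = MulAut.conj (h ^ 1) by rw [pow_one], ← cnj_add]
    rcases (show k.val + 1 < 3 ∨ k.val = 2 by omega) with hk | hk
    · exact Subgroup.subset_closure ⟨⟨⟨k.val + 1, hk⟩, m⟩, by
        rw [show 1 + (k.val + i * m) = k.val + 1 + i * m by ring]⟩
    · rw [hk, show 1 + (2 + i * m) = i * m + 3 by ring, cnj_add]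
      exact D.conj_gen_a D.top m
  induction n with
  | zero => simpa using hw
  | succ n ih =>
    rw [pow_succ', map_mul, MulAut.mul_apply]
    exact h1 ih

theorem h_mem {n : ℕ} : cnj h x n ∈ wgrp i h x :=
  D.conj_h (Subgroup.subset_closure ⟨⟨0, 0⟩, by simp [cnj_zero]⟩) n

theorem x_mem : x ∈ wgrp i h x := by
  simpa [cnj_zero] using D.h_mem (n := 0)

theorem z_mem : zel i h x ∈ wgrp i h x := by
  have h0 : x ∈ wgrp i h x := D.x_mem
  exact mul_mem (mul_mem (mul_mem h0 D.h_mem) (inv_mem h0)) (inv_mem D.h_mem)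

theorem zgrp_le : zgrp i h x ≤ wgrp i h x := by
  refine (Subgroup.closure_le _).mpr ?_
  rintro _ ⟨n, rfl⟩
  exact D.conj_h D.z_mem n

theorem inv_pow (n : ℕ) : ∃ m : ℕ, (h ^ n)⁻¹ = h ^ m := by
  obtain ⟨N, hN, hh⟩ := D.fin
  refine ⟨(N - 1) * n, inv_eq_of_mul_eq_one_right ?_⟩
  rw [← pow_add, show n + (N - 1) * n = N * n by
    obtain ⟨t, rfl⟩ : ∃ t, N = t + 1 := ⟨N - 1, by omega⟩
    rw [Nat.add_sub_cancel]; ring, pow_mul, hh, one_pow]

theorem z_commute {w : G} (hw : w ∈ wgrp i h x) : Commute (zel i h x) w := by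
  induction hw using Subgroup.closure_induction with
  | mem w hw =>
    obtain ⟨⟨k, n⟩, rfl⟩ := hw
    have h2 := (D.sz k).map (MulAut.conj (h ^ (i * n)))
    rw [← cnj_eq, ← cnj_eq, D.cnj_z, cnj_cnj] at h2
    show Commute _ (cnj h x (k.val + i * n))
    rw [show k.val + i * n = i * n + k.val by ring]
    exact h2.symm
  | one => exact Commute.one_right _
  | mul a b _ _ ha hb => exact ha.mul_right hb
  | inv a _ ha => exact ha.inv_right

theorem zgrp_commute {w v : G} (hv : v ∈ zgrp i h x) (hw : w ∈ wgrp i h x) : Commute v w := by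
  induction hv using Subgroup.closure_induction with
  | mem v hv =>
    obtain ⟨n, rfl⟩ := hv
    obtain ⟨m, hm⟩ := D.inv_pow n
    have h2 := (D.z_commute (D.conj_h hw m)).map (MulAut.conj (h ^ n))
    rw [← cnj_eq, ← hm, ← MulAut.mul_apply, ← map_mul, mul_inv_cancel, map_one] at h2
    simpa using h2
  | one => exact Commute.one_left _
  | mul a b _ _ ha hb => exact ha.mul_left hb
  | inv a _ ha => exact ha.inv_left

theorem zgrp_conj {v : G} (hv : v ∈ zgrp i h x) {g : G}
    (hg : g ∈ Subgroup.closure ({x, h} : Set G)) : g * v * g⁻¹ ∈ zgrp i h x := by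
  induction hg using Subgroup.closure_induction_left generalizing v with
  | one => simpa using hv
  | mul_left a ha b _ ih =>
    have e : a * b * v * (a * b)⁻¹ = a * (b * v * b⁻¹) * a⁻¹ := by simp [mul_assoc]
    rw [e]
    rcases ha with rfl | rfl
    · rw [← (D.zgrp_commute (ih hv) D.x_mem).eq, mul_inv_cancel_right]
      exact ih hv
    · have h1 : zgrp i a x ≤ (zgrp i a x).comap (MulAut.conj a).toMonoidHom := by
        refine (Subgroup.closure_le _).mpr ?_
        rintro _ ⟨n, rfl⟩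
        refine Subgroup.subset_closure ⟨1 + n, ?_⟩
        show cnj a _ _ = MulAut.conj a (cnj a _ n)
        rw [cnj_add, pow_one]
      exact h1 (ih hv)
  | inv_mul_cancel a ha b _ ih =>
    have e : a⁻¹ * b * v * (a⁻¹ * b)⁻¹ = a⁻¹ * (b * v * b⁻¹) * a⁻¹⁻¹ := by simp [mul_assoc]
    rw [e]
    rcases ha with rfl | rfl
    · rw [← (D.zgrp_commute (ih hv) (inv_mem D.x_mem)).eq, mul_inv_cancel_right]
      exact ih hv
    · have h1 : zgrp i a x ≤ (zgrp i a x).comap (MulAut.conj (a⁻¹)).toMonoidHom := by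
        refine (Subgroup.closure_le _).mpr ?_
        rintro _ ⟨n, rfl⟩
        obtain ⟨m, hm⟩ := D.inv_pow 1
        rw [pow_one] at hm
        refine Subgroup.subset_closure ⟨m + n, ?_⟩
        show cnj a _ _ = MulAut.conj a⁻¹ (cnj a _ n)
        rw [cnj_add, hm]
      exact h1 (ih hv)

theorem xp_comm [NeZero p] : zel i h x ^ p = 1 := by
  have hz : ∀ n : ℕ, x ^ n * cnj h x i * (x ^ n)⁻¹ = zel i h x ^ n * cnj h x i := by
    intro n
    induction n with
    | zero => simp
    | succ n ih =>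
      have hc : x * zel i h x ^ n = zel i h x ^ n * x :=
        ((D.z_commute D.x_mem).pow_left n).eq.symm
      calc x ^ (n + 1) * cnj h x i * (x ^ (n + 1))⁻¹
          = x * (x ^ n * cnj h x i * (x ^ n)⁻¹) * x⁻¹ := by
            simp [pow_succ', mul_assoc]
        _ = zel i h x ^ n * (x * cnj h x i * x⁻¹) := by
            rw [ih, ← mul_assoc x, hc]; simp [mul_assoc]
        _ = zel i h x ^ n * (zel i h x * cnj h x i) := by simp [zel]
        _ = _ := by rw [pow_succ]; simp [mul_assoc]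
  have h1 := hz p
  rw [(D.zgrp_commute D.xp D.h_mem).eq, mul_inv_cancel_right] at h1
  exact (right_eq_mul.mp h1)

theorem card_wgrp [Fact p.Prime] {F : Type*} [Field F] [Finite F] [Algebra (ZMod p) F] {κ : F}
    (hP : P = minpoly (ZMod p) κ) (hgenκ : ∀ u : F, ∃ P : (ZMod p)[X], aeval κ P = u)
    {K : Type*} [Field K] [Finite K] [Algebra (ZMod p) K] {N : K}
    (hQ : Q = minpoly (ZMod p) N) (hgenN : ∀ u : K, ∃ P : (ZMod p)[X], aeval N P = u) :
    Finite (wgrp i h x) ∧ Nat.card (wgrp i h x) ≤ Nat.card F * Nat.card K := by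
  classical
  let S : Subgroup G := Subgroup.closure {x, h}
  let Zs : Subgroup S := (zgrp i h x).subgroupOf S
  haveI : Zs.Normal := ⟨fun v hv g => D.zgrp_conj hv g.2⟩
  let π : S →* S ⧸ Zs := QuotientGroup.mk' Zs
  let xS : S := ⟨x, Subgroup.subset_closure (Set.mem_insert _ _)⟩
  let hS : S := ⟨h, Subgroup.subset_closure (Set.mem_insert_of_mem _ rfl)⟩
  have hWS : wgrp i h x ≤ S := by
    refine (Subgroup.closure_le _).mpr ?_
    rintro _ ⟨kn, rfl⟩
    exact mul_mem (mul_mem (pow_mem hS.2 _) xS.2) (inv_mem (pow_mem hS.2 _))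
  have hZS : zgrp i h x ≤ S := D.zgrp_le.trans hWS
  have hπ : ∀ a b : S, (∃ w ∈ zgrp i h x, (a : G) = b * w) → π a = π b := by
    rintro a b ⟨w, hw, e⟩
    refine ((QuotientGroup.eq).2 ?_).symm
    show ((b⁻¹ * a : S) : G) ∈ zgrp i h x
    rw [Subgroup.coe_mul, Subgroup.coe_inv, e, inv_mul_cancel_left]
    exact hw
  have hc : ∀ n : ℕ, ((cnj hS xS n : S) : G) = cnj h x n := fun n => map_cnj S.subtype hS xS n
  set hq : S ⧸ Zs := π hS
  set xq : S ⧸ Zs := π xS
  have hcq : ∀ n, π (cnj hS xS n) = cnj hq xq n := fun n => map_cnj π hS xS n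
  have hb : hq ^ j * xq * (hq ^ j)⁻¹ = xq * (hq ^ i * xq * (hq ^ i)⁻¹) := by
    obtain ⟨w, hw, e⟩ := D.bx
    show cnj hq xq j = xq * cnj hq xq i
    rw [← hcq, ← hcq, ← map_mul]
    refine hπ _ _ ⟨w, hw, ?_⟩
    rw [Subgroup.coe_mul, hc, hc, e]
  have h1 : Commute xq (hq ^ i * xq * (hq ^ i)⁻¹) := by
    show Commute xq (cnj hq xq i)
    rw [← hcq]
    show π xS * π _ = π _ * π xS
    rw [← map_mul, ← map_mul]
    refine hπ _ _ ⟨(cnj h x i * x)⁻¹ * zel i h x * (cnj h x i * x), ?_, ?_⟩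
    · rw [← (D.z_commute (inv_mem (mul_mem D.h_mem D.x_mem))).eq,
        inv_mul_cancel_right]
      exact Subgroup.subset_closure ⟨0, cnj_zero _ _⟩
    · rw [Subgroup.coe_mul, Subgroup.coe_mul, hc]
      show x * cnj h x i = _
      simp [zel, xS, mul_assoc]
  have hab : Commute (hq ^ i) (hq ^ j) := Commute.pow_pow_self hq i j
  have hk : ∀ k : Fin 3, ∀ n : ℕ, Commute xq (cnj hq xq (k.val + i * n)) := by
    intro k n
    rw [show k.val + i * n = i * n + k.val by ring, ← cnj_cnj, ← cnj_pow_base]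
    rcases eq_or_ne k.val 0 with h0 | h0
    · rw [h0, cnj_zero]
      exact commute_conj_pow hab h1 hb n
    have hkk : k.val - 1 + 1 = k.val := by omega
    have hrel : ∀ e : Fin 2, Commute xq (cnj hq xq (k.val + i * e.val)) := by
      intro e
      obtain ⟨w, hw, ew⟩ := D.comm ⟨k.val - 1, by omega⟩ e
      simp only [hkk] at ew
      rw [← hcq]
      show π xS * π _ = π _ * π xS
      rw [← map_mul, ← map_mul]
      refine hπ _ _ ⟨w, hw, ?_⟩
      rw [Subgroup.coe_mul, Subgroup.coe_mul, hc]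
      exact ew
    refine commute_conj_pow_pair hab hb
      (conj_cnj (Commute.pow_pow_self hq _ _) (Commute.pow_pow_self hq _ _) hb) ?_ ?_ n
    · have := hrel 0
      rw [Fin.val_zero, mul_zero, add_zero] at this
      exact this
    · have := hrel 1
      rw [Fin.val_one, mul_one, add_comm, ← cnj_cnj] at this
      exact this
  have hall : ∀ n : ℕ, Commute xq (cnj hq xq n) := by
    intro n
    have hmem : cnj h x n ∈ wgrp i h x := D.h_mem
    suffices H : ∀ w, ∀ hw : w ∈ wgrp i h x, Commute xq (π ⟨w, hWS hw⟩) by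
      have := H _ hmem
      rwa [show (⟨cnj h x n, hWS hmem⟩ : S) = cnj hS xS n from Subtype.ext (hc n).symm, hcq]
        at this
    intro w hw
    induction hw using Subgroup.closure_induction with
    | mem w hw =>
      obtain ⟨⟨k, m⟩, rfl⟩ := hw
      have := hk k m
      rwa [← hcq, show cnj hS xS (k.val + i * m)
        = (⟨cnj h x (k.val + i * m), hWS D.h_mem⟩ : S) from Subtype.ext (hc _)] at this
    | one => exact (map_one π).symm ▸ Commute.one_right _
    | mul a b ha hb iha ihb =>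
      exact (show π ⟨a * b, _⟩ = π ⟨a, hWS ha⟩ * π ⟨b, hWS hb⟩ from map_mul π ⟨a, _⟩ ⟨b, _⟩) ▸
        iha.mul_right ihb
    | inv a ha iha =>
      exact (show π ⟨a⁻¹, _⟩ = (π ⟨a, hWS ha⟩)⁻¹ from map_inv π ⟨a, _⟩) ▸ iha.inv_right
  have hzero : ∀ (a : S), (a : G) ∈ zgrp i h x → π a = 1 := fun a ha =>
    (QuotientGroup.eq_one_iff a).2 ha
  have hxp : xq ^ p = 1 := by
    rw [← map_pow]; exact hzero _ D.xp
  have hm : wordP hq xq (minpoly (ZMod p) κ) = 1 := by
    rw [← map_wordP π]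
    refine hzero _ ?_
    rw [show ((wordP hS xS (minpoly (ZMod p) κ) : S) : G) = _ from map_wordP S.subtype hS xS _,
      ← hP]
    exact D.minx
  obtain ⟨X, hXadd, hXh, -, hX1⟩ := exists_unipotent hall hxp hm hgenκ
  have hXn : ∀ n, cnj hq xq n = X (κ ^ n) := by
    intro n
    induction n with
    | zero => rw [cnj_zero, pow_zero, hX1]
    | succ n ih =>
      rw [add_comm n 1, cnj_add, ih, pow_one, MulAut.conj_apply, hXh, mul_inv_cancel_right,
        add_comm 1 n, pow_succ']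
  have hX0 : X 0 = 1 := by
    have := hXadd 0 0; rw [add_zero] at this; exact left_eq_mul.mp this
  have hXW : ∀ w, ∀ hw : w ∈ wgrp i h x, ∃ v, π ⟨w, hWS hw⟩ = X v := by
    intro w hw
    induction hw using Subgroup.closure_induction with
    | mem w hw =>
      obtain ⟨⟨k, m⟩, rfl⟩ := hw
      refine ⟨κ ^ (k.val + i * m), ?_⟩
      rw [← hXn, ← hcq]
      exact congrArg π (Subtype.ext (hc _).symm)
    | one => exact ⟨0, by rw [hX0]; exact map_one π⟩
    | mul a b ha hb iha ihb =>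
      obtain ⟨u, hu⟩ := iha
      obtain ⟨v, hv⟩ := ihb
      exact ⟨u + v, by rw [hXadd, ← hu, ← hv]; exact map_mul π ⟨a, hWS ha⟩ ⟨b, hWS hb⟩⟩
    | inv a ha iha =>
      obtain ⟨u, hu⟩ := iha
      refine ⟨-u, ?_⟩
      have e : (X u)⁻¹ = X (-u) :=
        inv_eq_of_mul_eq_one_right (by rw [← hXadd, add_neg_cancel, hX0])
      rw [← e, ← hu]
      exact map_inv π ⟨a, hWS ha⟩
  have hzc : ∀ n : ℕ, Commute (zel i h x) (cnj h (zel i h x) n) := fun n =>
    D.z_commute (D.conj_h D.z_mem n)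
  obtain ⟨Y, hYadd, hYh, -, hY1⟩ :=
    exists_unipotent (p := p) hzc D.xp_comm (hQ ▸ D.minz) hgenN
  have hY0 : Y 0 = 1 := by
    have := hYadd 0 0; rw [add_zero] at this; exact left_eq_mul.mp this
  have hYZ : ∀ v ∈ zgrp i h x, ∃ r, v = Y r := by
    intro v hv
    induction hv using Subgroup.closure_induction with
    | mem v hv =>
      obtain ⟨n, rfl⟩ := hv
      refine ⟨N ^ n, ?_⟩
      induction n with
      | zero => simp only [cnj_zero, pow_zero, hY1]
      | succ n ih =>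
        simp only at ih ⊢
        rw [add_comm n 1, cnj_add, ih, pow_one, MulAut.conj_apply, hYh, mul_inv_cancel_right,
          add_comm 1 n, pow_succ']
    | one => exact ⟨0, hY0.symm⟩
    | mul a b _ _ iha ihb =>
      obtain ⟨u, rfl⟩ := iha
      obtain ⟨v, rfl⟩ := ihb
      exact ⟨u + v, (hYadd u v).symm⟩
    | inv a _ iha =>
      obtain ⟨u, rfl⟩ := iha
      exact ⟨-u, inv_eq_of_mul_eq_one_right (by rw [← hYadd, add_neg_cancel, hY0])⟩
  let f : F × K → G := fun vr =>
    ((Function.surjInv (QuotientGroup.mk'_surjective Zs) (X vr.1) : S) : G) * Y vr.2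
  have hsub : (wgrp i h x : Set G) ⊆ Set.range f := by
    intro w hw
    obtain ⟨v, hv⟩ := hXW w hw
    set l := Function.surjInv (QuotientGroup.mk'_surjective Zs) (X v)
    have hl : π l = X v := Function.surjInv_eq _ _
    obtain ⟨r, hr⟩ := hYZ ((l⁻¹ * (⟨w, hWS hw⟩ : S) : S) : G)
      ((QuotientGroup.eq (s := Zs) (a := l) (b := ⟨w, hWS hw⟩)).1 (hl.trans hv.symm))
    refine ⟨(v, r), ?_⟩
    show (l : G) * Y r = w
    rw [← hr]
    simp
  have hfin : (wgrp i h x : Set G).Finite := (Set.finite_range f).subset hsub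
  refine ⟨hfin.to_subtype, ?_⟩
  calc Nat.card (wgrp i h x) ≤ Nat.card (Set.range f) :=
        Nat.card_mono (Set.finite_range f) hsub
    _ ≤ Nat.card (F × K) := Finite.card_range_le f
    _ = _ := Nat.card_prod _ _

end RadRels

end Cfsg.Agent.H68.ShortSU
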