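import Cfsg.Agent.H68.ShortSU.Model

/-!
A group satisfying the radical relations, the torus relations and two instances of the Weyl
relation maps injectively to `SU₃(q)`.
-/

set_option autoImplicit false
set_option linter.unusedSectionVars false

namespace Cfsg.Agent.H68.ShortSU

open Cfsg Matrix Cfsg.Agent.Unitary Cfsg.Agent.H52.SUThree Cfsg.Agent.H99.ShortPres Polynomial

variable {F : Type*} [Field F] [Fintype F] {q : ℕ} {u w f : Fin 3 → F}

theorem card_Usub (hF : Fintype.card F = q ^ 2) (hfr : Frame q u w f) :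
    Fintype.card F * q ≤ Nat.card (Usub hF hfr) := by
  have hU : ∀ at' : F × {t : F // t + t ^ q = 0},
      ∃ g : Usub hF hfr, fmat q u w f g = Umat q at'.1 ((exists_ok hF at'.1).choose + at'.2) := by
    rintro ⟨a, t, ht⟩
    have hb := (exists_ok hF a).choose_spec
    set c := (exists_ok hF a).choose
    have h : Ok q a (c + t) := by
      simp only [Ok, add_pow_q hF] at *
      linear_combination hb + ht
    obtain ⟨g, hg⟩ := exists_U hF hfr h
    exact ⟨⟨g, a, c + t, h, hg⟩, hg⟩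
  choose G hG using hU
  have hinj : Function.Injective G := by
    intro x y hxy
    have h1 : Umat q x.1 _ = Umat q y.1 _ := (hG x).symm.trans ((congrArg
      (fun g : Usub hF hfr => fmat q u w f g) hxy).trans (hG y))
    have ha : x.1 = y.1 := by simpa [Umat] using congrFun (congrFun h1 0) 1
    have hb := congrFun (congrFun h1 0) 2
    simp [Umat] at hb
    obtain ⟨a, t⟩ := x
    obtain ⟨a', t'⟩ := y
    obtain rfl : a = a' := ha
    exact Prod.ext rfl (Subtype.ext (add_left_cancel hb))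
  have h := Nat.card_le_card_of_injective G hinj
  rwa [Nat.card_prod, card_trace_zero hF, Nat.card_eq_fintype_card] at h

/-- The relations, in a group mapped to `SU₃(q)`. -/
structure Rels {G : Type*} [Group G] (P : Prim F q) (u w f : Fin 3 → F) (θ : G →* SU 3 F q)
    (X H T : G) (j p : ℕ) (Pk Pn : (ZMod p)[X]) : Prop where
  tt : T * T = 1
  tht : T * H * T = (H ^ q)⁻¹
  rad : RadRels H X (q - 1) j p Pk Pn
  seed : ∀ e : Fin 2, ∃ a, Ok q a (P.ζ ^ (e.val + 1)) ∧ ∃ g ∈ wgrp (q - 1) H X,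
    fmat q u w f (θ g) = Umat q a (P.ζ ^ (e.val + 1)) ∧
    ∃ g1 ∈ wgrp (q - 1) H X, ∃ g2 ∈ wgrp (q - 1) H X, ∃ l : ℕ, T * g * T = g1 * T * H ^ l * g2
  gen : Subgroup.closure ({X, H, T} : Set G) = ⊤

theorem torus_period {G : Type*} [Group G] {H T : G} (hq : 2 ≤ q) (htt : T * T = 1)
    (htht : T * H * T = (H ^ q)⁻¹) : H ^ (q ^ 2 - 1) = 1 := by
  have hT : T⁻¹ = T := inv_eq_of_mul_eq_one_right htt
  have hc : ∀ n : ℕ, T * H ^ n * T = ((H ^ q)⁻¹) ^ n := by
    intro n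
    rw [← htht]
    nth_rw 2 [← hT]
    nth_rw 4 [← hT]
    exact (conj_pow).symm
  have h1 : H = ((T * H * T) ^ q)⁻¹ := by
    have h2 : T * (H ^ q)⁻¹ * T = H := by
      rw [← htht]
      calc T * (T * H * T) * T = (T * T) * H * (T * T) := by simp only [mul_assoc]
        _ = H := by rw [htt, one_mul, mul_one]
    rw [htht, ← hc, _root_.mul_inv_rev, _root_.mul_inv_rev, hT, ← mul_assoc]
    exact h2.symm
  rw [htht, inv_pow, inv_inv, ← pow_mul, ← pow_two] at h1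
  refine mul_right_cancel (b := H) ?_
  rw [one_mul, ← pow_succ, Nat.sub_add_cancel (Nat.one_le_pow 2 q (by omega))]
  exact h1.symm

variable (hF : Fintype.card F = q ^ 2) (hfr : Frame q u w f) {P : Prim F q}
  {x h t : SU 3 F q} {β : F} (Γ : Gens (u := u) (w := w) (f := f) P x h t β)
  (h2 : q ≠ 2) (h3 : q ≠ 3) (h5 : q ≠ 5)
  {G : Type*} [Group G] {θ : G →* SU 3 F q} {X H T : G} {j p : ℕ} {Pk Pn : (ZMod p)[X]}
  [Fact p.Prime] [Algebra (ZMod p) F] [Algebra (ZMod p) (fixK hF)]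
  (hPk : Pk = minpoly (ZMod p) P.kap)
  (hPn : Pn = minpoly (ZMod p) (⟨P.nrm, P.nrm_fixed hF⟩ : fixK hF))

include hF hfr Γ h2 h3 h5 hPk hPn

theorem injective_of_rels (hX : θ X = x) (hH : θ H = h) (hT : θ T = t)
    (R : Rels P u w f θ X H T j p Pk Pn) : Function.Injective θ := by
  classical
  haveI : Fintype (fixK hF) := Fintype.ofFinite _
  have hq := two_le_q hF
  have hH1 : H ^ (q ^ 2 - 1) = 1 := torus_period hq R.tt R.tht
  have D := R.rad
  set W := wgrp (q - 1) H X with hW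
  obtain ⟨hfin, hcard⟩ := D.card_wgrp hPk (aeval_surj (P.kap_gen hF h2 h3 h5)) hPn
    (aeval_surj fun r e hr he hre hν => by
      rw [← Nat.card_eq_fintype_card, card_fixK hF] at hre
      exact P.nrm_gen hF h2 h3 h5 hr he hre (congrArg Subtype.val hν))
  have hmap : W.map θ = Usub hF hfr := by
    rw [hW, map_wgrp, hH, hX, wgrp_eq hF hfr Γ h2 h3 h5]
  let ρ : W → Usub hF hfr := fun g => ⟨θ g, hmap ▸ Subgroup.mem_map_of_mem θ g.2⟩
  have hρs : Function.Surjective ρ := by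
    rintro ⟨g, hg⟩
    rw [← hmap] at hg
    obtain ⟨g', hg', rfl⟩ := hg
    exact ⟨⟨g', hg'⟩, rfl⟩
  have hρ : Function.Injective ρ := by
    refine (hρs.bijective_of_nat_card_le ?_).1
    refine hcard.trans ?_
    rw [card_fixK hF, Nat.card_eq_fintype_card]
    exact card_Usub hF hfr
  have hinjW : ∀ a ∈ W, ∀ b ∈ W, θ a = θ b → a = b := fun a ha b hb e =>
    congrArg Subtype.val (@hρ ⟨a, ha⟩ ⟨b, hb⟩ (Subtype.ext e))
  have hcoord : ∀ g ∈ W, ∃ a b, Ok q a b ∧ fmat q u w f (θ g) = Umat q a b := fun g hg =>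
    (ρ ⟨g, hg⟩).2
  have hpinv : ∀ n : ℕ, ∃ m : ℕ, (H ^ n)⁻¹ = H ^ m := D.inv_pow
  have hconj : ∀ g ∈ W, ∀ n : ℕ, H ^ n * g * (H ^ n)⁻¹ ∈ W := fun g hg n => D.conj_h hg n
  have hconj' : ∀ g ∈ W, ∀ n : ℕ, (H ^ n)⁻¹ * g * H ^ n ∈ W := by
    intro g hg n
    obtain ⟨m, hm⟩ := hpinv n
    rw [show H ^ n = (H ^ m)⁻¹ by rw [← hm, inv_inv], inv_inv]
    exact hconj g hg m
  have hTi : T⁻¹ = T := inv_eq_of_mul_eq_one_right R.tt
  have hTH : ∀ l : ℕ, ∃ m : ℕ, H ^ l * T = T * H ^ m ∧ T * H ^ l = H ^ m * T := by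
    intro l
    obtain ⟨m, hm⟩ := hpinv (q * l)
    have e : T * H ^ l * T = H ^ m := by
      rw [← hm]
      nth_rw 2 [← hTi]
      rw [← conj_pow, hTi, R.tht, inv_pow, pow_mul]
    refine ⟨m, ?_, ?_⟩
    · rw [← e, ← mul_assoc, ← mul_assoc, R.tt, one_mul]
    · rw [← e, mul_assoc (T * H ^ l), R.tt, mul_one]
  have hTH1 : T * H = (H ^ q)⁻¹ * T := by rw [← R.tht, mul_assoc (T * H), R.tt, mul_one]
  let Good : F → F → Prop := fun a b => ∃ g ∈ W, fmat q u w f (θ g) = Umat q a b ∧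
    ∃ g1 ∈ W, ∃ g2 ∈ W, ∃ l : ℕ, T * g * T = g1 * T * H ^ l * g2
  have hexact : ∀ {a b : F}, Ok q a b → b ≠ 0 → ∀ {g g1 g2 : G} {l : ℕ}, g1 ∈ W → g2 ∈ W →
      fmat q u w f (θ g) = Umat q a b → T * g * T = g1 * T * H ^ l * g2 →
      fmat q u w f (θ g1) = Umat q (-a / b ^ q) (1 / b) ∧
      fmat q u w f (θ g2) = Umat q (-a / b) (1 / b) := by
    intro a b hab hb g g1 g2 l hg1 hg2 hg e
    obtain ⟨A, B, -, e1⟩ := hcoord g1 hg1
    obtain ⟨C, E, -, e2⟩ := hcoord g2 hg2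
    have h1 := congrArg (fun g => fmat q u w f (θ g)) e
    simp only [map_mul, map_pow, hH, hT, fmat_mul hF hfr, Γ.ht, e1, e2, hg,
      fmat_pow hF hfr Γ] at h1
    obtain ⟨rfl, rfl, rfl, rfl⟩ := tut_unique hF hab hb h1.symm
    exact ⟨e1, e2⟩
  have hκ : ∀ a b, Ok q a b → Good a b → Good (P.kap * a) (P.nrm * b) := by
    rintro a b - ⟨g, hg, hgm, g1, hg1, g2, hg2, l, e⟩
    refine ⟨H ^ 1 * g * (H ^ 1)⁻¹, hconj g hg 1, ?_,
      (H ^ q)⁻¹ * g1 * H ^ q, hconj' g1 hg1 q, (H ^ q)⁻¹ * g2 * H ^ q, hconj' g2 hg2 q,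
      1 + l + q, ?_⟩
    · rw [map_mul, map_mul, map_inv, map_pow, hH, fmat_conj hF hfr Γ hgm, pow_one, pow_one]
    · have h2' : H⁻¹ * T = T * H ^ q := by
        rw [← inv_inv (H ^ q), ← R.tht, _root_.mul_inv_rev, _root_.mul_inv_rev, hTi, ← mul_assoc T T,
          R.tt, one_mul]
      calc T * (H ^ 1 * g * (H ^ 1)⁻¹) * T = T * H * g * (H⁻¹ * T) := by
            simp only [pow_one, mul_assoc]
        _ = (H ^ q)⁻¹ * (T * g * T) * H ^ q := by rw [hTH1, h2']; simp only [mul_assoc]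
        _ = (H ^ q)⁻¹ * (g1 * (T * (H ^ l * g2))) * H ^ q := by rw [e]; simp only [mul_assoc]
        _ = (H ^ q)⁻¹ * g1 * H ^ q * (((H ^ q)⁻¹ * T) * (H ^ l * g2)) * H ^ q := by group
        _ = _ := by rw [← hTH1, pow_add, pow_add, pow_one]; group
  have hrot : ∀ a b, Ok q a b → b ≠ 0 → Good a b → Good (a / b ^ q) (1 / b ^ q) := by
    rintro a b hab hb ⟨g, hg, hgm, g1, hg1, g2, hg2, l, e⟩
    obtain ⟨e1, -⟩ := hexact hab hb hg1 hg2 hgm e
    obtain ⟨m, hm, -⟩ := hTH l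
    refine ⟨g1⁻¹, inv_mem hg1, ?_, H ^ l * g2 * (H ^ l)⁻¹, hconj g2 hg2 l, g⁻¹, inv_mem hg, m, ?_⟩
    · have h' : b + b ^ q + a * a ^ q = 0 := hab
      have hbq := pow_ne_zero q hb
      refine (fmat_unit hF hfr (θ g1)).mul_left_inj.1 ?_
      rw [← fmat_mul hF hfr, map_inv, inv_mul_cancel, fmat_one hF hfr, e1, Umat_mul hF,
        ← Umat_zero (q := q) (F := F) hF]
      congr 1
      · field_simp; ring
      · rw [div_pow, neg_pow_q hF, pow_q_q hF]
        field_simp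
        linear_combination -h'
    · have h4 : T * g1⁻¹ * (T * g * T) = H ^ l * g2 := by
        rw [e]
        calc T * g1⁻¹ * (g1 * T * H ^ l * g2) = (T * T) * (H ^ l * g2) := by
              simp only [mul_assoc, inv_mul_cancel_left]
          _ = _ := by rw [R.tt, one_mul]
      calc T * g1⁻¹ * T = T * g1⁻¹ * (T * g * T) * T * g⁻¹ := by
            simp only [mul_assoc]
            rw [← mul_assoc T T, R.tt, one_mul, mul_inv_cancel, mul_one]
        _ = H ^ l * g2 * (H ^ l)⁻¹ * (H ^ l * T) * g⁻¹ := by rw [h4]; group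
        _ = _ := by rw [hm]; simp only [mul_assoc]
  have hmul : ∀ a b c d, Ok q a b → Ok q c d → b ≠ 0 → d ≠ 0 → b + d - a * c ^ q ≠ 0 →
      Good a b → Good c d → Good (-a / b + -c / d ^ q) ((b + d - a * c ^ q) / (b * d)) →
      Good (a + c) (b + d - a * c ^ q) := by
    rintro a b c d hab hcd hb hd - ⟨g, hg, hgm, g1, hg1, g2, hg2, l, e⟩
      ⟨g', hg', hgm', g1', hg1', g2', hg2', l', e'⟩ ⟨gw, hgw, hgwm, w1, hw1, w2, hw2, k, ew⟩
    obtain ⟨-, e2⟩ := hexact hab hb hg1 hg2 hgm e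
    obtain ⟨e1', -⟩ := hexact hcd hd hg1' hg2' hgm' e'
    have hweq : gw = g2 * g1' := by
      refine hinjW _ hgw _ (mul_mem hg2 hg1') (fmat_inj hF hfr ?_)
      rw [hgwm, map_mul, fmat_mul hF hfr, e2, e1', Umat_mul hF]
      congr 1
      rw [div_pow, neg_pow_q hF, pow_q_q hF]
      field_simp
      ring
    obtain ⟨m, hm, -⟩ := hTH l'
    obtain ⟨m', -, hm'⟩ := hTH l
    obtain ⟨m'', hm'', -⟩ := hTH m'
    obtain ⟨n, hn⟩ := hpinv l'
    refine ⟨g * g', mul_mem hg hg', by rw [map_mul, fmat_mul hF hfr, hgm, hgm', Umat_mul hF],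
      g1 * (H ^ m' * w1 * (H ^ m')⁻¹), mul_mem hg1 (hconj w1 hw1 m'),
      (H ^ l')⁻¹ * w2 * H ^ l' * g2', mul_mem (hconj' w2 hw2 l') hg2', m'' + (k + l'), ?_⟩
    calc T * (g * g') * T = T * g * (T * T) * g' * T := by rw [R.tt, mul_one]; group
      _ = (T * g * T) * (T * g' * T) := by simp only [mul_assoc]
      _ = g1 * (T * H ^ l) * (g2 * g1') * T * H ^ l' * g2' := by
          rw [e, e']; simp only [mul_assoc]
      _ = g1 * (H ^ m' * T) * gw * T * H ^ l' * g2' := by rw [hm', hweq]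
      _ = g1 * H ^ m' * (T * gw * T) * H ^ l' * g2' := by simp only [mul_assoc]
      _ = g1 * H ^ m' * (w1 * T * H ^ k * w2) * H ^ l' * g2' := by rw [ew]
      _ = g1 * (H ^ m' * w1 * (H ^ m')⁻¹) * (H ^ m' * T) * H ^ k * H ^ l' *
            ((H ^ l')⁻¹ * w2 * H ^ l') * g2' := by group
      _ = _ := by rw [hm'', pow_add, pow_add]; simp only [mul_assoc]
  have hall : ∀ a b, Ok q a b → b ≠ 0 → Good a b := by
    obtain ⟨a1, hO1, g, hg, hgm, he⟩ := R.seed 0
    obtain ⟨a2, hO2, g', hg', hgm', he'⟩ := R.seed 1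
    simp only [Fin.val_zero, Fin.val_one, zero_add, pow_one, show (1 : ℕ) + 1 = 2 from rfl]
      at hO1 hgm hO2 hgm'
    exact fun a b hab hb => closure_all Good hF h2 h3 P hκ hrot hmul hO1 ⟨g, hg, hgm, he⟩
      hO2 ⟨g', hg', hgm', he'⟩ hab hb
  have hstep : ∀ g ∈ W, g ≠ 1 → ∃ g1 ∈ W, ∃ g2 ∈ W, ∃ l : ℕ,
      T * g * T = g1 * T * H ^ l * g2 := by
    intro g hg hne
    obtain ⟨a, b, hab, e⟩ := hcoord g hg
    have hb : b ≠ 0 := by
      rintro rfl
      obtain rfl := eq_zero_of_b hF hab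
      refine hne (hinjW g hg 1 (one_mem _) (fmat_inj hF hfr ?_))
      rw [e, map_one, fmat_one hF hfr, Umat_zero hF]
    obtain ⟨g', hg', e', he⟩ := hall a b hab hb
    rwa [hinjW g hg g' hg' (fmat_inj hF hfr (e.trans e'.symm))]
  have hXW : X ∈ W := Subgroup.subset_closure ⟨⟨0, 0⟩, by simp [cnj]⟩
  -- the two cells exhaust the group
  let Cell : G → Prop := fun z => (∃ a ∈ W, ∃ n : ℕ, z = a * H ^ n) ∨
    ∃ a ∈ W, ∃ n : ℕ, ∃ b ∈ W, z = a * T * H ^ n * b
  have hWmul : ∀ a ∈ W, ∀ z, Cell z → Cell (a * z) := by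
    rintro a ha z (⟨c, hc, n, rfl⟩ | ⟨c, hc, n, b, hb, rfl⟩)
    · exact Or.inl ⟨a * c, mul_mem ha hc, n, by simp only [mul_assoc]⟩
    · exact Or.inr ⟨a * c, mul_mem ha hc, n, b, hb, by simp only [mul_assoc]⟩
  have hHmul : ∀ l : ℕ, ∀ z, Cell z → Cell (H ^ l * z) := by
    rintro l z (⟨c, hc, n, rfl⟩ | ⟨c, hc, n, b, hb, rfl⟩)
    · refine Or.inl ⟨_, hconj c hc l, l + n, ?_⟩
      rw [pow_add]; group
    · obtain ⟨m, hm, -⟩ := hTH l
      refine Or.inr ⟨_, hconj c hc l, m + n, b, hb, ?_⟩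
      calc H ^ l * (c * T * H ^ n * b) = H ^ l * c * (H ^ l)⁻¹ * (H ^ l * T) * H ^ n * b := by group
        _ = _ := by rw [hm, pow_add]; simp only [mul_assoc]
  have hTmul : ∀ z, Cell z → Cell (T * z) := by
    rintro z (⟨c, hc, n, rfl⟩ | ⟨c, hc, n, b, hb, rfl⟩)
    · refine Or.inr ⟨1, one_mem _, n, _, hconj' c hc n, ?_⟩
      group
    · rcases eq_or_ne c 1 with rfl | hc1
      · refine Or.inl ⟨_, hconj b hb n, n, ?_⟩
        calc T * (1 * T * H ^ n * b) = (T * T) * (H ^ n * b) := by simp only [one_mul, mul_assoc]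
          _ = _ := by rw [R.tt, one_mul]; group
      · obtain ⟨g1, hg1, g2, hg2, l, e⟩ := hstep c hc hc1
        refine Or.inr ⟨g1, hg1, l + n, _, mul_mem (hconj' g2 hg2 n) hb, ?_⟩
        calc T * (c * T * H ^ n * b) = (T * c * T) * H ^ n * b := by simp only [mul_assoc]
          _ = _ := by rw [e, pow_add]; group
  have hcell : ∀ z, Cell z := by
    intro z
    have hz : z ∈ Subgroup.closure ({X, H, T} : Set G) := by rw [R.gen]; trivial
    induction hz using Subgroup.closure_induction_left with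
    | one => exact Or.inl ⟨1, one_mem _, 0, by simp⟩
    | mul_left a ha b _ ih =>
      rcases ha with rfl | rfl | rfl
      · exact hWmul _ hXW _ ih
      · simpa using hHmul 1 _ ih
      · exact hTmul _ ih
    | inv_mul_cancel a ha b _ ih =>
      rcases ha with rfl | rfl | rfl
      · exact hWmul _ (inv_mem hXW) _ ih
      · obtain ⟨m, hm⟩ := hpinv 1
        rw [pow_one] at hm
        rw [hm]
        exact hHmul m _ ih
      · rw [hTi]; exact hTmul _ ih
  refine (injective_iff_map_eq_one θ).2 fun z hz => ?_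
  have hz' : fmat q u w f (θ z) = 1 := by rw [hz, fmat_one hF hfr]
  rcases hcell z with ⟨c, hc, n, rfl⟩ | ⟨c, hc, n, b, hb, rfl⟩
  · obtain ⟨a, a', -, e⟩ := hcoord c hc
    rw [map_mul, fmat_mul hF hfr, e, map_pow, hH, fmat_pow hF hfr Γ] at hz'
    have h00 : P.ζ ^ n = 1 := by
      simpa [Umat, Dmat, Matrix.mul_apply, Fin.sum_univ_three] using congrFun (congrFun hz' 0) 0
    obtain ⟨k, hk⟩ := (P.pow_one _).1 h00
    have hHn : H ^ n = 1 := by rw [hk, pow_mul, hH1, one_pow]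
    rw [hHn, mul_one] at hz ⊢
    exact hinjW c hc 1 (one_mem _) (by rw [hz, map_one])
  · obtain ⟨a, a', -, e⟩ := hcoord c hc
    obtain ⟨a2, a2', -, e2⟩ := hcoord b hb
    rw [map_mul, map_mul, map_mul, map_pow, hH, hT, fmat_mul hF hfr, fmat_mul hF hfr,
      fmat_mul hF hfr, e, e2, Γ.ht, fmat_pow hF hfr Γ] at hz'
    exact absurd (congrFun (congrFun hz' 2) 0)
      (by simp [Umat, Dmat, Tmat, Matrix.mul_apply, Fin.sum_univ_three, pow_ne_zero n P.ne0])

end Cfsg.Agent.H68.ShortSU
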