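import Cfsg.Agent.H68.ShortSU.Kernel
import Cfsg.Agent.H99.HasPres
import Cfsg.Agent.Unitary.Center

/-!
`SU₃(q)` has a presentation with three generators and seventeen relations.
-/

set_option autoImplicit false
set_option linter.unusedSectionVars false

namespace Cfsg.Agent.H68.ShortSU

open Cfsg Matrix Cfsg.Agent.Unitary Cfsg.Agent.H52.SUThree Cfsg.Agent.H99.ShortPres
open Cfsg.Agent.H99.BoundedPres Polynomial

variable {F : Type*} [Field F] [Fintype F] {q : ℕ}

theorem list_coord {G : Type*} [Group G] {R : Type*} [CommRing R] (S : Subgroup G) (φ : G → R)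
    (h1 : φ 1 = 0) (hm : ∀ a ∈ S, ∀ b ∈ S, φ (a * b) = φ a + φ b) (g : ℕ → G) (hg : ∀ n, g n ∈ S)
    (c : ℕ → ℕ) (L : List ℕ) :
    (L.map fun n => g n ^ c n).prod ∈ S ∧
      φ ((L.map fun n => g n ^ c n).prod) = (L.map fun n => (c n : R) * φ (g n)).sum := by
  have hp : ∀ n k : ℕ, φ (g n ^ k) = (k : R) * φ (g n) := by
    intro n k
    induction k with
    | zero => simp [h1]
    | succ k ih =>
      rw [pow_succ, hm _ (S.pow_mem (hg n) k) _ (hg n), ih]
      push_cast
      ring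
  induction L with
  | nil => exact ⟨S.one_mem, by simp [h1]⟩
  | cons n L ih =>
    simp only [List.map_cons, List.prod_cons, List.sum_cons]
    exact ⟨S.mul_mem (S.pow_mem (hg n) _) ih.1, by rw [hm _ (S.pow_mem (hg n) _) _ ih.1, hp, ih.2]⟩

theorem sum_aeval {R : Type*} [CommRing R] {p : ℕ} [NeZero p] [Algebra (ZMod p) R] (κ : R)
    (P : (ZMod p)[X]) :
    ((List.range (P.natDegree + 1)).map fun n => ((P.coeff n).val : R) * κ ^ n).sum
      = aeval κ P := by
  rw [aeval_eq_sum_range]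
  show (Finset.range (P.natDegree + 1)).sum (fun n => ((P.coeff n).val : R) * κ ^ n) = _
  refine Finset.sum_congr rfl fun n _ => ?_
  rw [Algebra.smul_def]
  conv_rhs => rw [← ZMod.natCast_zmod_val (P.coeff n), map_natCast]

theorem center_cyclic_three (hF : Fintype.card F = q ^ 2) :
    ∃ z : SU 3 F q, Subgroup.center (SU 3 F q) = Subgroup.zpowers z := by
  obtain ⟨u, w, f, hfr⟩ := exists_frame hF
  set C := Subgroup.center (SU 3 F q)
  have hscal : ∀ A : C, ∃ l : F, ∀ y, ap (A : SU 3 F q) y = l • y := fun A =>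
    eq_smul_of_mem_center hF (by norm_num) A.2
  choose l hl using hscal
  have hu0 : u ≠ 0 := fun h => by simpa [h] using hfr.uf
  have hinjl : ∀ a b : F, a • u = b • u → a = b := fun a b h => smul_left_injective F hu0 h
  let φ : C →* F :=
    { toFun := l
      map_one' := hinjl _ _ (by
        rw [← hl, show ((1 : C) : SU 3 F q) = 1 from rfl, ap_one, one_smul])
      map_mul' := fun A B => hinjl _ _ (by
        rw [← hl, Subgroup.coe_mul, ap_mul, hl, hl, smul_smul]) }
  haveI : IsCyclic C := isCyclic_of_subgroup_isDomain φ fun A B h =>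
    Subtype.ext (ap_ext fun y => by rw [hl, hl, show l A = l B from h])
  obtain ⟨g, hg⟩ := IsCyclic.exists_generator (α := C)
  refine ⟨g, le_antisymm (fun y hy => ?_) (Subgroup.zpowers_le.mpr g.2)⟩
  obtain ⟨k, hk⟩ := hg ⟨y, hy⟩
  exact ⟨k, congrArg Subtype.val hk⟩

theorem hasPres_su_three (hF : Fintype.card F = q ^ 2) (h2 : q ≠ 2) (h3 : q ≠ 3) (h5 : q ≠ 5) :
    HasPres (SU 3 F q) 3 17 := by
  classical
  obtain ⟨u, w, f, hfr⟩ := exists_frame hF
  obtain ⟨P⟩ := exists_prim hF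
  obtain ⟨x, h, t, β, Γ⟩ := exists_gens hF hfr P
  obtain ⟨p, hchar⟩ := CharP.exists F
  haveI := hchar
  haveI : Fact p.Prime := ⟨CharP.char_is_prime F p⟩
  haveI : CharP (fixK hF) p := (fixK hF).subtype.charP Subtype.val_injective p
  letI : Algebra (ZMod p) F := ZMod.algebra F p
  letI : Algebra (ZMod p) (fixK hF) := ZMod.algebra (fixK hF) p
  have hq := two_le_q hF
  set i := q - 1 with hi
  set ν : fixK hF := ⟨P.nrm, P.nrm_fixed hF⟩ with hν
  set Pk := minpoly (ZMod p) P.kap with hPk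
  set Pn := minpoly (ZMod p) ν with hPn
  obtain ⟨j, hj⟩ := exists_one_add hF h2 h3 h5 P
  let Φ : Fin 3 → SU 3 F q := ![x, h, t]
  let fx : FreeGroup (Fin 3) := FreeGroup.of 0
  let fh : FreeGroup (Fin 3) := FreeGroup.of 1
  let ft : FreeGroup (Fin 3) := FreeGroup.of 2
  let e := FreeGroup.lift Φ
  have ex : e fx = x := FreeGroup.lift_apply_of
  have eh : e fh = h := FreeGroup.lift_apply_of
  have et : e ft = t := FreeGroup.lift_apply_of
  have ec : ∀ n, e (cnj fh fx n) = cnj h x n := fun n => by rw [map_cnj, eh, ex]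
  have ez : e (zel i fh fx) = zel i h x := by rw [map_zel, eh, ex]
  have hWU : wgrp i h x = Usub hF hfr := wgrp_eq hF hfr Γ h2 h3 h5
  have liftW : ∀ g ∈ Usub hF hfr, ∃ v ∈ wgrp i fh fx, e v = g := by
    intro g hg
    rw [← hWU] at hg
    have hm := map_wgrp e i fh fx
    rw [eh, ex] at hm
    rw [← hm] at hg
    exact hg
  let co : SU 3 F q → F := fun g => fmat q u w f g 0 1
  have hco1 : co 1 = 0 := by simp [co, fmat_one hF hfr]
  have hcom : ∀ a ∈ Usub hF hfr, ∀ b ∈ Usub hF hfr, co (a * b) = co a + co b := by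
    rintro a ⟨a1, a2, -, ea⟩ b ⟨b1, b2, -, eb⟩
    simp [co, fmat_mul hF hfr, ea, eb, Umat_mul hF]
    simp [Umat]
  have hcU : ∀ n, cnj h x n ∈ Usub hF hfr := by
    intro n
    refine ⟨_, _, ?_, fmat_cnj hF hfr Γ n⟩
    have := Ok.scale hF Γ.hβ (P.kap ^ n)
    rwa [mul_one, pow_right_comm P.kap _ q, ← mul_pow, P.kap_norm hF] at this
  have hcn : ∀ n, co (cnj h x n) = P.kap ^ n := fun n => by
    simp [co, fmat_cnj hF hfr Γ, Umat]
  have hcoi : ∀ a ∈ Usub hF hfr, co a⁻¹ = -co a := fun a ha =>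
    eq_neg_of_add_eq_zero_left (by rw [← hcom _ (inv_mem ha) _ ha, inv_mul_cancel, hco1])
  have liftZ : ∀ g ∈ Usub hF hfr, co g = 0 → ∃ v ∈ zgrp i fh fx, e v = g := by
    rintro g ⟨a, b, hab, eg⟩ hg0
    obtain rfl : a = 0 := by simpa [co, eg, Umat] using hg0
    obtain ⟨g', hg', e'⟩ := zgrp_center hF hfr Γ h2 h3 h5 (b := b) (by
      simpa [Ok, q_ne_zero hF] using hab)
    obtain rfl : g' = g := fmat_inj hF hfr (e'.trans eg.symm)
    have hm := map_zgrp e i fh fx
    rw [eh, ex] at hm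
    rw [← hm] at hg'
    exact hg'
  -- the words
  obtain ⟨w7, hw7, e7⟩ := liftW _ (hcU 3)
  obtain ⟨w8, hw8, e8⟩ := liftZ ((x * cnj h x i)⁻¹ * cnj h x j)
    (mul_mem (inv_mem (mul_mem (cnj_zero h x ▸ hcU 0) (hcU i))) (hcU j)) (by
    have hxU : x ∈ Usub hF hfr := cnj_zero h x ▸ hcU 0
    have hx1 : co x = 1 := by
      have h0 := hcn 0
      rwa [cnj_zero, pow_zero] at h0
    rw [hcom _ (inv_mem (mul_mem hxU (hcU i))) _ (hcU j), hcoi _ (mul_mem hxU (hcU i)),
      hcom _ hxU _ (hcU i), hcn, hcn, hx1, hj,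
      show P.kap ^ i = P.cEl from rfl]
    ring)
  have hxU : x ∈ Usub hF hfr := cnj_zero h x ▸ hcU 0
  have hx1 : co x = 1 := by
    have h0 := hcn 0
    rwa [cnj_zero, pow_zero] at h0
  have h9 : ∀ n : ℕ, ∃ v ∈ zgrp i fh fx, e v = (cnj h x n * x)⁻¹ * (x * cnj h x n) := fun n =>
    liftZ _ (mul_mem (inv_mem (mul_mem (hcU n) hxU)) (mul_mem hxU (hcU n))) (by
      rw [hcom _ (inv_mem (mul_mem (hcU n) hxU)) _ (mul_mem hxU (hcU n)),
        hcoi _ (mul_mem (hcU n) hxU), hcom _ (hcU n) _ hxU, hcom _ hxU _ (hcU n)]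
      ring)
  choose v9 hv9 e9 using h9
  obtain ⟨w13, hw13, e13⟩ := liftZ (x ^ p) (Subgroup.pow_mem _ hxU p) (by
    have h0 := (list_coord (Usub hF hfr) co hco1 hcom (fun _ => x) (fun _ => hxU)
      (fun _ => p) [0]).2
    simpa [hx1] using h0)
  have hk14 := list_coord (Usub hF hfr) co hco1 hcom (fun n => cnj h x n) hcU
    (fun n => (Pk.coeff n).val) (List.range (Pk.natDegree + 1))
  obtain ⟨w14, hw14, e14⟩ := liftZ (wordP h x Pk) hk14.1 (by
    refine hk14.2.trans ?_
    simp only [hcn]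
    rw [sum_aeval, hPk, minpoly.aeval])
  -- the centre
  set z0 := P.cEl - P.cEl ^ q
  let ZS : Subgroup (SU 3 F q) :=
    { carrier := {g | ∃ b, fmat q u w f g = Umat q 0 b}
      one_mem' := ⟨0, by rw [fmat_one hF hfr, Umat_zero hF]⟩
      mul_mem' := by
        rintro a b ⟨a', ea⟩ ⟨b', eb⟩
        exact ⟨a' + b', by rw [fmat_mul hF hfr, ea, eb, Umat_mul hF, zero_mul, sub_zero, add_zero]⟩
      inv_mem' := by
        rintro a ⟨a', ea⟩
        refine ⟨-a', ((fmat_unit hF hfr a).mul_left_inj).1 ?_⟩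
        rw [← fmat_mul hF hfr, inv_mul_cancel, fmat_one hF hfr, ea, Umat_mul hF, zero_mul,
          sub_zero, add_zero, neg_add_cancel, Umat_zero hF] }
  let cz : SU 3 F q → F := fun g => fmat q u w f g 0 2
  have hzc : ∀ n, fmat q u w f (cnj h (zel i h x) n) = Umat q 0 (P.nrm ^ n * z0) := by
    intro n
    rw [cnj, fmat_conj hF hfr Γ (fmat_zel hF hfr Γ), mul_zero]
  have hk15 := list_coord ZS cz (by simp [cz, fmat_one hF hfr])
    (by
      rintro a ⟨a', ea⟩ b ⟨b', eb⟩
      simp [cz, fmat_mul hF hfr, ea, eb, Umat_mul hF]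
      simp [Umat])
    (fun n => cnj h (zel i h x) n) (fun n => ⟨_, hzc n⟩)
    (fun n => (Pn.coeff n).val) (List.range (Pn.natDegree + 1))
  have e15 : wordP h (zel i h x) Pn = 1 := by
    obtain ⟨b, hb⟩ := hk15.1
    refine fmat_inj hF hfr ?_
    rw [fmat_one hF hfr, ← Umat_zero (q := q) (F := F) hF]
    show fmat q u w f ((List.range (Pn.natDegree + 1)).map
      fun n => cnj h (zel i h x) n ^ (Pn.coeff n).val).prod = _
    rw [hb]
    have key : ∀ c : F, Umat q 0 c 0 2 = c := fun c => by simp [Umat]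
    have hval := hk15.2
    simp only [cz, hb, hzc, key] at hval
    have hsum : ((List.range (Pn.natDegree + 1)).map
        fun n => ((Pn.coeff n).val : F) * (P.nrm ^ n * z0)).sum = 0 := by
      have h0 : (((List.range (Pn.natDegree + 1)).map
          fun n => ((Pn.coeff n).val : fixK hF) * ν ^ n).sum : fixK hF) = 0 := by
        rw [sum_aeval, hPn, minpoly.aeval]
      have h1 := congrArg (fixK hF).subtype h0
      rw [map_list_sum, map_zero, List.map_map] at h1
      have hfun : (fun n => ((Pn.coeff n).val : F) * (P.nrm ^ n * z0))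
          = fun n => ((fixK hF).subtype ∘ fun n => ((Pn.coeff n).val : fixK hF) * ν ^ n) n * z0 := by
        funext n
        rw [Function.comp_apply, map_mul, map_pow, map_natCast]
        show _ = _ * P.nrm ^ n * z0
        ring
      rw [hfun, List.sum_map_mul_right, h1, zero_mul]
    rw [hval, hsum]
  -- seeds
  have hseed : ∀ n : ℕ, ∃ a, Ok q a (P.ζ ^ n) ∧ ∃ v ∈ wgrp i fh fx, ∃ v1 ∈ wgrp i fh fx,
      ∃ v2 ∈ wgrp i fh fx, fmat q u w f (e v) = Umat q a (P.ζ ^ n) ∧
      e (ft * v * ft) = e (v1 * ft * fh ^ n * v2) := by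
    intro n
    obtain ⟨a, ha⟩ := exists_a hF (P.ζ ^ n)
    have hb : P.ζ ^ n ≠ 0 := pow_ne_zero _ P.ne0
    obtain ⟨g, hg⟩ := exists_U hF hfr ha
    obtain ⟨g1, hg1⟩ := exists_U hF hfr (Ok.left' hF ha hb)
    obtain ⟨g2, hg2⟩ := exists_U hF hfr (Ok.right' hF ha hb)
    obtain ⟨v, hv, rfl⟩ := liftW g ⟨_, _, ha, hg⟩
    obtain ⟨v1, hv1, rfl⟩ := liftW g1 ⟨_, _, Ok.left' hF ha hb, hg1⟩
    obtain ⟨v2, hv2, rfl⟩ := liftW g2 ⟨_, _, Ok.right' hF ha hb, hg2⟩
    refine ⟨a, ha, v, hv, v1, hv1, v2, hv2, hg, fmat_inj hF hfr ?_⟩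
    rw [map_mul, map_mul, map_mul, map_mul, map_mul, map_pow, et, eh, fmat_mul hF hfr,
      fmat_mul hF hfr, fmat_mul hF hfr, fmat_mul hF hfr, fmat_mul hF hfr, hg, hg1, hg2, Γ.ht,
      fmat_pow hF hfr Γ]
    exact tut hF ha hb
  choose sa hsa sv hsv sv1 hsv1 sv2 hsv2 hsm hse using hseed
  let k3 : Fin 3 → FreeGroup (Fin 3) × FreeGroup (Fin 3) := fun k =>
    (cnj fh fx k.val * zel i fh fx, zel i fh fx * cnj fh fx k.val)
  let c4 : ℕ → FreeGroup (Fin 3) × FreeGroup (Fin 3) := fun n =>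
    (fx * cnj fh fx n, cnj fh fx n * fx * v9 n)
  let sd : ℕ → FreeGroup (Fin 3) × FreeGroup (Fin 3) := fun n =>
    (ft * sv n * ft, sv1 n * ft * fh ^ n * sv2 n)
  let L : List (FreeGroup (Fin 3) × FreeGroup (Fin 3)) :=
    [(ft * ft, 1), (ft * fh * ft, (fh ^ q)⁻¹), (fh ^ i * zel i fh fx, zel i fh fx * fh ^ i),
      k3 0, k3 1, k3 2, (cnj fh fx 3, w7), (cnj fh fx j, fx * cnj fh fx i * w8),
      c4 1, c4 (1 + i), c4 2, c4 (2 + i), (fx ^ p, w13), (wordP fh fx Pk, w14),
      (wordP fh (zel i fh fx) Pn, 1), sd 1, sd 2]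
  refine HasPres.of_list L le_rfl Φ (gens_top hF hfr Γ h2 h3 h5) ?_ ?_
  · -- the relations hold
    intro r hr
    have hnat : ∀ n, e (cnj fh fx n * zel i fh fx) = e (zel i fh fx * cnj fh fx n) := by
      intro n
      refine fmat_inj hF hfr ?_
      rw [map_mul, map_mul, ec, ez, fmat_mul hF hfr, fmat_mul hF hfr, fmat_cnj hF hfr Γ,
        fmat_zel hF hfr Γ, Umat_mul hF, Umat_mul hF]
      congr 1
      · ring
      · simp [q_ne_zero hF]; ring
    have hc4 : ∀ n, e (fx * cnj fh fx n) = e (cnj fh fx n * fx * v9 n) := fun n => by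
      rw [map_mul, map_mul, map_mul, ec, ex, e9, mul_inv_cancel_left]
    simp only [L, k3, c4, sd, List.mem_cons, List.not_mem_nil, or_false] at hr
    rcases hr with rfl | rfl | rfl | rfl | rfl | rfl | rfl | rfl | rfl | rfl | rfl | rfl | rfl |
      rfl | rfl | rfl | rfl
    · show e _ = e _
      refine fmat_inj hF hfr ?_
      rw [map_mul, map_one, et, fmat_mul hF hfr, Γ.ht, fmat_one hF hfr, Tmat_sq]
    · show e _ = e _
      rw [map_mul, map_mul, map_inv, map_pow, et, eh]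
      refine eq_inv_of_mul_eq_one_left (fmat_inj hF hfr ?_)
      rw [fmat_mul hF hfr, fmat_mul hF hfr, fmat_mul hF hfr, Γ.ht, Γ.hh, fmat_pow hF hfr Γ,
        Tmat_Dmat hF P.ne0, Dmat_mul, one_div_mul_cancel P.zq_ne, Dmat_one, fmat_one hF hfr]
    · show e _ = e _
      refine fmat_inj hF hfr ?_
      rw [map_mul, map_mul, map_pow, eh, ez, fmat_mul hF hfr, fmat_mul hF hfr,
        fmat_pow hF hfr Γ, fmat_zel hF hfr Γ, Dmat_Umat hF (pow_ne_zero _ P.ne0), mul_zero]
      have : P.ζ ^ i * (P.ζ ^ i) ^ q = 1 := by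
        rw [pow_right_comm, ← mul_pow]; exact nrm_period hF hfr
      rw [this, one_mul]
    · exact hnat _
    · exact hnat _
    · exact hnat _
    · show e _ = e _
      rw [ec, e7]
    · show e _ = e _
      rw [map_mul, map_mul, ec, ec, ex, e8, mul_inv_cancel_left]
    · exact hc4 _
    · exact hc4 _
    · exact hc4 _
    · exact hc4 _
    · show e _ = e _
      rw [map_pow, ex, e13]
    · show e _ = e _
      rw [map_wordP, eh, ex, e14]
    · show e _ = e _
      rw [map_wordP, eh, ez, map_one, e15]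
    · exact hse 1
    · exact hse 2
  · -- injectivity
    intro G _ π hπ hrels θ hθ
    have hval : ∀ y, θ (π y) = e y := fun y => DFunLike.congr_fun hθ y
    set X := π fx
    set H := π fh
    set T := π ft
    have hL : ∀ a b, (a, b) ∈ L → π a = π b := fun a b hab => hrels (a, b) hab
    have pc : ∀ n, π (cnj fh fx n) = cnj H X n := fun n => map_cnj π fh fx n
    have pz : π (zel i fh fx) = zel i H X := map_zel π i fh fx
    have pW : ∀ v ∈ wgrp i fh fx, π v ∈ wgrp i H X := fun v hv =>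
      map_wgrp π i fh fx ▸ Subgroup.mem_map_of_mem π hv
    have pZ : ∀ v ∈ zgrp i fh fx, π v ∈ zgrp i H X := fun v hv =>
      map_zgrp π i fh fx ▸ Subgroup.mem_map_of_mem π hv
    have r1 : T * T = 1 := by
      rw [← map_mul, hL (ft * ft) 1 (by simp [L]), map_one]
    have r2 : T * H * T = (H ^ q)⁻¹ := by
      rw [← map_mul, ← map_mul, hL (ft * fh * ft) ((fh ^ q)⁻¹) (by simp [L]), map_inv, map_pow]
    have r3 : Commute (H ^ i) (zel i H X) := by
      have := hL (fh ^ i * zel i fh fx) (zel i fh fx * fh ^ i) (by simp [L])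
      rwa [map_mul, map_mul, map_pow, pz] at this
    have r4 : ∀ k : Fin 3, Commute (cnj H X k) (zel i H X) := by
      intro k
      have := hL (k3 k).1 (k3 k).2 (by fin_cases k <;> simp [L])
      simp only [k3, map_mul, pc, pz] at this
      exact this
    have r9 : ∀ n, (c4 n) ∈ L → ∃ v ∈ zgrp i H X, X * cnj H X n = cnj H X n * X * v := by
      intro n hn
      refine ⟨π (v9 n), pZ _ (hv9 n), ?_⟩
      have := hL (c4 n).1 (c4 n).2 hn
      simpa only [c4, map_mul, pc] using this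
    refine injective_of_rels hF hfr Γ h2 h3 h5 hPk hPn (X := X) (H := H) (T := T) (j := j)
      (by rw [hval, ex]) (by rw [hval, eh]) (by rw [hval, et]) ⟨r1, r2, ?_, ?_, ?_⟩
    · refine ⟨⟨q ^ 2 - 1, ?_, torus_period hq r1 r2⟩, r3, r4, ?_, ?_, ?_, ?_, ?_, ?_⟩
      · have : 4 ≤ q ^ 2 := Nat.pow_le_pow_left hq 2
        omega
      · rw [← pc, hL (cnj fh fx 3) w7 (by simp [L])]
        exact pW _ hw7
      · refine ⟨π w8, pZ _ hw8, ?_⟩
        rw [← pc, hL (cnj fh fx j) (fx * cnj fh fx i * w8) (by simp [L]), map_mul, map_mul, pc]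
      · intro k e'
        fin_cases k <;> fin_cases e'
        · exact r9 1 (by simp [L]) |>.imp fun v hv => ⟨hv.1, by simpa using hv.2⟩
        · exact r9 (1 + i) (by simp [L]) |>.imp fun v hv => ⟨hv.1, by simpa [hi] using hv.2⟩
        · exact r9 2 (by simp [L]) |>.imp fun v hv => ⟨hv.1, by simpa using hv.2⟩
        · exact r9 (2 + i) (by simp [L]) |>.imp fun v hv => ⟨hv.1, by simpa [hi] using hv.2⟩
      · rw [← map_pow, hL (fx ^ p) w13 (by simp [L])]
        exact pZ _ hw13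
      · rw [← map_wordP, hL (wordP fh fx Pk) w14 (by simp [L])]
        exact pZ _ hw14
      · rw [← pz, ← map_wordP, hL (wordP fh (zel i fh fx) Pn) 1 (by simp [L]), map_one]
    · intro k
      refine ⟨sa (k.val + 1), hsa _, π (sv (k.val + 1)), pW _ (hsv _), by rw [hval]; exact hsm _,
        π (sv1 (k.val + 1)), pW _ (hsv1 _), π (sv2 (k.val + 1)), pW _ (hsv2 _), k.val + 1, ?_⟩
      rw [← map_mul, ← map_mul, hL (sd (k.val + 1)).1 (sd (k.val + 1)).2
        (by fin_cases k <;> simp [L])]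
      simp only [sd, map_mul, map_pow]
      rfl
    · have e' : ({X, H, T} : Set G) = π '' Set.range (FreeGroup.of : Fin 3 → FreeGroup (Fin 3)) := by
        ext y
        simp [Set.mem_image, Fin.exists_fin_succ, X, H, T, fx, fh, ft, eq_comm]
      rw [e', ← MonoidHom.map_closure, FreeGroup.closure_range_of,
        Subgroup.map_top_of_surjective _ hπ]

end Cfsg.Agent.H68.ShortSU
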