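import Cfsg.Agent.H68.ShortSU.Param
import Cfsg.Agent.H68.ShortSU.Borel

/-!
`SU₃(q)` in a frame: unipotent, torus and Weyl matrices, the formula for `t u t` and the facts
about the generated subgroups needed for the presentation.
-/

set_option autoImplicit false
set_option linter.unusedSectionVars false

namespace Cfsg.Agent.H68.ShortSU

open Cfsg Matrix Cfsg.Agent.Unitary Cfsg.Agent.H52.SUThree Cfsg.Agent.H99.ShortPres

variable {F : Type*} [Field F] [Fintype F] {q : ℕ}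

/-- Unipotent matrix. -/
def Umat (q : ℕ) (a b : F) : Matrix (Fin 3) (Fin 3) F := !![1, a, b; 0, 1, -a ^ q; 0, 0, 1]

/-- Torus matrix. -/
def Dmat (q : ℕ) (x : F) : Matrix (Fin 3) (Fin 3) F := !![x, 0, 0; 0, x ^ q / x, 0; 0, 0, 1 / x ^ q]

/-- Weyl matrix. -/
def Tmat : Matrix (Fin 3) (Fin 3) F := !![0, 0, 1; 0, -1, 0; 1, 0, 0]

theorem Umat_mul (hF : Fintype.card F = q ^ 2) (a b c d : F) :
    Umat q a b * Umat q c d = Umat q (a + c) (b + d - a * c ^ q) := by
  ext i j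
  fin_cases i <;> fin_cases j <;>
    simp [Umat, Matrix.mul_apply, Fin.sum_univ_three, add_pow_q hF] <;> ring

theorem Umat_zero (hF : Fintype.card F = q ^ 2) : Umat q (0 : F) 0 = 1 := by
  ext i j
  fin_cases i <;> fin_cases j <;> simp [Umat, q_ne_zero hF]

theorem Dmat_one : Dmat q (1 : F) = 1 := by
  ext i j
  fin_cases i <;> fin_cases j <;> simp [Dmat]

theorem Dmat_mul (x y : F) : Dmat q x * Dmat q y = Dmat q (x * y) := by
  ext i j
  fin_cases i <;> fin_cases j <;>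
    simp [Dmat, Matrix.mul_apply, Fin.sum_univ_three, mul_pow] <;> ring

theorem Dmat_Umat (hF : Fintype.card F = q ^ 2) {x : F} (hx : x ≠ 0) (a b : F) :
    Dmat q x * Umat q a b = Umat q (x ^ 2 / x ^ q * a) (x * x ^ q * b) * Dmat q x := by
  have hxq := pow_ne_zero q hx
  ext i j
  fin_cases i <;> fin_cases j <;>
    simp [Dmat, Umat, Matrix.mul_apply, Fin.sum_univ_three, mul_pow, div_pow, pow_q_q hF,
      pow_right_comm x 2 q] <;> field_simp

theorem Tmat_sq : (Tmat : Matrix (Fin 3) (Fin 3) F) * Tmat = 1 := by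
  ext i j
  fin_cases i <;> fin_cases j <;> simp [Tmat, Matrix.mul_apply, Fin.sum_univ_three]

theorem Tmat_Dmat (hF : Fintype.card F = q ^ 2) {x : F} (hx : x ≠ 0) :
    Tmat * Dmat q x * Tmat = Dmat q (1 / x ^ q) := by
  have hxq := pow_ne_zero q hx
  ext i j
  fin_cases i <;> fin_cases j <;>
    simp [Dmat, Tmat, Matrix.mul_apply, Fin.sum_univ_three, div_pow, pow_q_q hF] <;> field_simp

/-- The Bruhat form of `t u t`. -/
theorem tut (hF : Fintype.card F = q ^ 2) {a b : F} (h : Ok q a b) (hb : b ≠ 0) :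
    Tmat * Umat q a b * Tmat =
      Umat q (-a / b ^ q) (1 / b) * Tmat * Dmat q b * Umat q (-a / b) (1 / b) := by
  have hbq := pow_ne_zero q hb
  have h' : b + b ^ q + a * a ^ q = 0 := h
  ext i j
  fin_cases i <;> fin_cases j <;>
    simp [Dmat, Tmat, Umat, Matrix.mul_apply, Fin.sum_univ_three, div_pow, neg_pow_q hF,
      pow_q_q hF] <;> field_simp <;> first
      | ring1
      | linear_combination h'
      | linear_combination -h'
      | linear_combination (a ^ q) * h'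
      | linear_combination -(a ^ q) * h'

/-- The parameters in the Bruhat form are unique. -/
theorem tut_unique (hF : Fintype.card F = q ^ 2) {a b A B C D x : F} (h : Ok q a b)
    (hb : b ≠ 0) (e : Umat q A B * Tmat * Dmat q x * Umat q C D = Tmat * Umat q a b * Tmat) :
    A = -a / b ^ q ∧ B = 1 / b ∧ C = -a / b ∧ D = 1 / b := by
  have hbq := pow_ne_zero q hb
  have e20 := congrFun (congrFun e 2) 0
  have e21 := congrFun (congrFun e 2) 1
  have e22 := congrFun (congrFun e 2) 2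
  have e10 := congrFun (congrFun e 1) 0
  have e00 := congrFun (congrFun e 0) 0
  simp [Dmat, Tmat, Umat, Matrix.mul_apply, Fin.sum_univ_three] at e20 e21 e22 e10 e00
  subst e20
  refine ⟨?_, ?_, ?_, ?_⟩
  · have h1 := congrArg (· ^ q) e10
    simp only [mul_pow, neg_pow_q hF, pow_q_q hF] at h1
    field_simp
    first
      | linear_combination h1
      | linear_combination -h1
  · field_simp
    linear_combination e00
  · field_simp
    first
      | linear_combination e21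
      | linear_combination -e21
  · field_simp
    linear_combination e22

variable {u w f : Fin 3 → F}

/-- The matrix in the frame. -/
def fmat (q : ℕ) (u w f : Fin 3 → F) (g : SU 3 F q) : Matrix (Fin 3) (Fin 3) F :=
  Matrix.of ![cj q f, cj q w, cj q u] * mat g * Matrix.of fun i j => ![u i, w i, f i] j

variable (hF : Fintype.card F = q ^ 2) (hfr : Frame q u w f)
include hF hfr

theorem fmat_one : fmat q u w f 1 = 1 := by
  rw [fmat]
  show _ * (1 : Matrix (Fin 3) (Fin 3) F) * _ = 1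
  rw [mul_one, hfr.mul_eq_one]

theorem fmat_mul (g g' : SU 3 F q) :
    fmat q u w f (g * g') = fmat q u w f g * fmat q u w f g' := by
  simp only [fmat]
  have e := mul_eq_one_comm.1 hfr.mul_eq_one
  rw [show mat (g * g') = mat g * mat g' from rfl]
  simp only [Matrix.mul_assoc]
  rw [← Matrix.mul_assoc (Matrix.of fun i j => ![u i, w i, f i] j), e, Matrix.one_mul]

theorem fmat_inj {g g' : SU 3 F q} (h : fmat q u w f g = fmat q u w f g') : g = g' := by
  have e := mul_eq_one_comm.1 hfr.mul_eq_one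
  have h1 := congrArg (fun M => (Matrix.of fun i j => ![u i, w i, f i] j) * M
    * Matrix.of ![cj q f, cj q w, cj q u]) h
  simp only [fmat, Matrix.mul_assoc] at h1
  rw [e, Matrix.mul_one, Matrix.mul_one, ← Matrix.mul_assoc, e, Matrix.one_mul,
    ← Matrix.mul_assoc, e, Matrix.one_mul] at h1
  exact Subtype.ext (Subtype.ext h1)

theorem vec_eq (c : Fin 3 → F) :
    vec u w f (c 0) (c 1) (c 2) = (Matrix.of fun i j => ![u i, w i, f i] j) *ᵥ c := by
  ext i
  simp [Matrix.mulVec, dotProduct, Fin.sum_univ_three, H52.SUThree.vec]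
  ring

theorem ap_vec (g : SU 3 F q) (c : Fin 3 → F) :
    ap g (vec u w f (c 0) (c 1) (c 2)) = vec u w f ((fmat q u w f g *ᵥ c) 0)
      ((fmat q u w f g *ᵥ c) 1) ((fmat q u w f g *ᵥ c) 2) := by
  have e := mul_eq_one_comm.1 hfr.mul_eq_one
  rw [vec_eq hF hfr, vec_eq hF hfr, ap_def, fmat, mulVec_mulVec, mulVec_mulVec,
    ← Matrix.mul_assoc, ← Matrix.mul_assoc, e, Matrix.one_mul]

theorem exists_elt {D : Matrix (Fin 3) (Fin 3) F} (hD : D.det = 1)
    (hp : ∀ x y : Fin 3 → F, (D *ᵥ x) 0 * (D *ᵥ y) 2 ^ q + (D *ᵥ x) 1 * (D *ᵥ y) 1 ^ q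
        + (D *ᵥ x) 2 * (D *ᵥ y) 0 ^ q
      = x 0 * y 2 ^ q + x 1 * y 1 ^ q + x 2 * y 0 ^ q) :
    ∃ g : SU 3 F q, fmat q u w f g = D := by
  obtain ⟨g, hg⟩ := exists_map hF hfr D hD hp
  refine ⟨g, Matrix.ext_iff_mulVec.2 fun c => ?_⟩
  have h1 := ap_vec hF hfr g c
  have e : (![c 0, c 1, c 2] : Fin 3 → F) = c := by ext i; fin_cases i <;> rfl
  rw [hg, e, vec_eq hF hfr, vec_eq hF hfr] at h1
  have h2 := congrArg (fun v => Matrix.of ![cj q f, cj q w, cj q u] *ᵥ v) h1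
  simp only [mulVec_mulVec, ← Matrix.mul_assoc, hfr.mul_eq_one, Matrix.one_mul] at h2
  exact h2.symm

theorem exists_U {a b : F} (h : Ok q a b) :
    ∃ g : SU 3 F q, fmat q u w f g = Umat q a b := by
  refine exists_elt hF hfr (by simp [Umat, det_fin_three]) fun x y => ?_
  simp [Umat, Matrix.mulVec, dotProduct, Fin.sum_univ_three, add_pow_q hF, mul_pow,
    neg_pow_q hF, pow_q_q hF]
  have h' : b + b ^ q + a * a ^ q = 0 := h
  linear_combination (x 2 * y 2 ^ q) * h'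

theorem exists_D {x : F} (hx : x ≠ 0) : ∃ g : SU 3 F q, fmat q u w f g = Dmat q x := by
  have hxq := pow_ne_zero q hx
  refine exists_elt hF hfr (by simp [Dmat, det_fin_three]; field_simp) fun y z => ?_
  simp [Dmat, Matrix.mulVec, dotProduct, Fin.sum_univ_three, mul_pow, inv_pow, div_pow,
    pow_q_q hF]
  field_simp

theorem exists_T : ∃ g : SU 3 F q, fmat q u w f g = Tmat := by
  refine exists_elt hF hfr (by simp [Tmat, det_fin_three]) fun y z => ?_
  simp [Tmat, Matrix.mulVec, dotProduct, Fin.sum_univ_three, neg_pow_q hF]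
  ring

/-- The unipotent subgroup. -/
def Usub : Subgroup (SU 3 F q) where
  carrier := {g | ∃ a b, Ok q a b ∧ fmat q u w f g = Umat q a b}
  one_mem' := ⟨0, 0, Ok.zero hF, by rw [fmat_one hF hfr, Umat_zero hF]⟩
  mul_mem' := by
    rintro g g' ⟨a, b, h, e⟩ ⟨c, d, h', e'⟩
    exact ⟨_, _, Ok.mul hF h h', by rw [fmat_mul hF hfr, e, e', Umat_mul hF]⟩
  inv_mem' := by
    rintro g ⟨a, b, h, e⟩
    obtain ⟨g', hg'⟩ := exists_U hF hfr (h.neg hF)
    refine ⟨_, _, h.neg hF, ?_⟩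
    rw [inv_eq_of_mul_eq_one_right (a := g) (b := g') (fmat_inj hF hfr ?_), hg']
    rw [fmat_mul hF hfr, fmat_one hF hfr, e, hg', Umat_mul hF, add_neg_cancel, neg_pow_q hF,
      mul_neg, sub_neg_eq_add]
    have h' : b + b ^ q + a * a ^ q = 0 := h
    rw [h', Umat_zero hF]

theorem fmat_unit (g : SU 3 F q) : IsUnit (fmat q u w f g) :=
  IsUnit.of_mul_eq_one (fmat q u w f g⁻¹)
    (by rw [← fmat_mul hF hfr, mul_inv_cancel, fmat_one hF hfr])

theorem fmat_comm {g g' : SU 3 F q} {a b c d : F} (e : fmat q u w f g = Umat q a b)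
    (e' : fmat q u w f g' = Umat q c d) :
    fmat q u w f (g * g' * g⁻¹ * g'⁻¹) = Umat q 0 (c * a ^ q - a * c ^ q) := by
  refine (fmat_unit hF hfr (g' * g)).mul_left_inj.1 ?_
  rw [← fmat_mul hF hfr, show g * g' * g⁻¹ * g'⁻¹ * (g' * g) = g * g' by group, fmat_mul hF hfr,
    fmat_mul hF hfr, e, e', Umat_mul hF, Umat_mul hF, Umat_mul hF]
  congr 1 <;> ring

/-- The generators in a frame. -/
structure Gens (P : Prim F q) (x h t : SU 3 F q) (β : F) : Prop where
  hβ : Ok q 1 β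
  hx : fmat q u w f x = Umat q 1 β
  hh : fmat q u w f h = Dmat q P.ζ
  ht : fmat q u w f t = Tmat

omit hF hfr in
theorem kap_pow (P : Prim F q) (n : ℕ) : (P.ζ ^ n) ^ 2 / (P.ζ ^ n) ^ q = P.kap ^ n := by
  rw [Prim.kap, div_pow, pow_right_comm P.ζ 2, pow_right_comm P.ζ q]

theorem exists_gens (P : Prim F q) : ∃ x h t β, Gens (u := u) (w := w) (f := f) P x h t β := by
  obtain ⟨β, hβ⟩ := exists_ok hF (1 : F)
  obtain ⟨x, hx⟩ := exists_U hF hfr hβ
  obtain ⟨h, hh⟩ := exists_D hF hfr P.ne0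
  obtain ⟨t, ht⟩ := exists_T hF hfr
  exact ⟨x, h, t, β, hβ, hx, hh, ht⟩

variable {P : Prim F q} {x h t : SU 3 F q} {β : F}
  (Γ : Gens (u := u) (w := w) (f := f) P x h t β)
include Γ

theorem fmat_pow (n : ℕ) : fmat q u w f (h ^ n) = Dmat q (P.ζ ^ n) := by
  induction n with
  | zero => rw [pow_zero, pow_zero, fmat_one hF hfr, Dmat_one]
  | succ n ih => rw [pow_succ, fmat_mul hF hfr, ih, Γ.hh, Dmat_mul, pow_succ]

theorem fmat_conj {g : SU 3 F q} {a b : F} (hg : fmat q u w f g = Umat q a b) (n : ℕ) :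
    fmat q u w f (h ^ n * g * (h ^ n)⁻¹) = Umat q (P.kap ^ n * a) (P.nrm ^ n * b) := by
  have e : fmat q u w f (h ^ n * g) =
      Umat q (P.kap ^ n * a) (P.nrm ^ n * b) * fmat q u w f (h ^ n) := by
    rw [fmat_mul hF hfr, fmat_pow hF hfr Γ, hg, Dmat_Umat hF (pow_ne_zero _ P.ne0), kap_pow,
      Prim.nrm, mul_pow P.ζ, pow_right_comm P.ζ n q]
  have h1 := fmat_mul hF hfr (h ^ n * g * (h ^ n)⁻¹) (h ^ n)
  rw [inv_mul_cancel_right, e] at h1
  exact ((fmat_unit hF hfr _).mul_right_cancel h1).symm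

theorem fmat_cnj (n : ℕ) :
    fmat q u w f (cnj h x n) = Umat q (P.kap ^ n) (P.nrm ^ n * β) := by
  rw [cnj, fmat_conj hF hfr Γ Γ.hx, mul_one]

theorem wgrp_le (i : ℕ) : wgrp i h x ≤ Usub hF hfr := by
  refine (Subgroup.closure_le _).mpr ?_
  rintro _ ⟨kn, rfl⟩
  refine ⟨_, _, ?_, fmat_cnj hF hfr Γ (kn.1.val + i * kn.2)⟩
  have := Ok.scale hF Γ.hβ (P.kap ^ (kn.1.val + i * kn.2))
  rwa [mul_one, pow_right_comm P.kap _ q, ← mul_pow, P.kap_norm hF] at this

omit Γ in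
theorem nrm_period : P.nrm ^ (q - 1) = 1 :=
  pow_sub_one_eq_one hF (mul_ne_zero P.ne0 P.zq_ne) (P.nrm_fixed hF)

theorem fmat_zel :
    fmat q u w f (zel (q - 1) h x) = Umat q 0 (P.cEl - P.cEl ^ q) := by
  have ey : fmat q u w f (cnj h x (q - 1)) = Umat q P.cEl β := by
    rw [fmat_cnj hF hfr Γ, nrm_period hF hfr, one_mul]; rfl
  rw [zel, fmat_comm hF hfr Γ.hx ey, one_pow, mul_one, one_mul]

variable (h2 : q ≠ 2) (h3 : q ≠ 3) (h5 : q ≠ 5)
include h2 h3 h5

theorem zgrp_center {b : F} (hb : b + b ^ q = 0) :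
    ∃ g ∈ zgrp (q - 1) h x, fmat q u w f g = Umat q 0 b := by
  have hz0 : P.cEl - P.cEl ^ q ≠ 0 := sub_ne_zero.2 (P.cEl_q_ne hF h2 h3 h5).symm
  set z0 := P.cEl - P.cEl ^ q with hz0def
  have hmem : ∀ n, cnj h (zel (q - 1) h x) n ∈ zgrp (q - 1) h x := fun n =>
    Subgroup.subset_closure ⟨n, rfl⟩
  let S : AddSubgroup (fixK hF) :=
    { carrier := {r | ∃ g ∈ zgrp (q - 1) h x, fmat q u w f g = Umat q 0 ((r : F) * z0)}
      zero_mem' := ⟨1, one_mem _, by rw [fmat_one hF hfr, ZeroMemClass.coe_zero, zero_mul, Umat_zero hF]⟩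
      add_mem' := by
        rintro r s ⟨g, hg, e⟩ ⟨g', hg', e'⟩
        exact ⟨g * g', mul_mem hg hg', by
          rw [fmat_mul hF hfr, e, e', Umat_mul hF, zero_mul, sub_zero, add_zero,
            AddMemClass.coe_add, add_mul]⟩
      neg_mem' := by
        rintro r ⟨g, hg, e⟩
        refine ⟨g⁻¹, inv_mem hg, ?_⟩
        have h1 : fmat q u w f g⁻¹ * fmat q u w f g = 1 := by
          rw [← fmat_mul hF hfr, inv_mul_cancel, fmat_one hF hfr]
        rw [e] at h1
        refine (IsUnit.mul_left_inj (IsUnit.of_mul_eq_one_right _ h1)).1 ?_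
        rw [h1, Umat_mul hF, zero_mul, sub_zero, add_zero, NegMemClass.coe_neg, neg_mul,
          neg_add_cancel, Umat_zero hF] }
  let ν : fixK hF := ⟨P.nrm, P.nrm_fixed hF⟩
  have h1 : (1 : fixK hF) ∈ S :=
    ⟨_, hmem 0, by rw [cnj_zero, fmat_zel hF hfr Γ, OneMemClass.coe_one, one_mul]⟩
  have hst : ∀ r ∈ S, ν * r ∈ S := by
    rintro r ⟨g, hg, e⟩
    refine ⟨h ^ 1 * g * (h ^ 1)⁻¹, ?_, ?_⟩
    · have hle : zgrp (q - 1) h x ≤ (zgrp (q - 1) h x).comap (MulAut.conj (h ^ 1)).toMonoidHom := by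
        refine (Subgroup.closure_le _).mpr ?_
        rintro _ ⟨n, rfl⟩
        exact Subgroup.subset_closure ⟨1 + n, cnj_add _ _ _ _⟩
      exact hle hg
    · rw [fmat_conj hF hfr Γ e, mul_zero, pow_one, ← mul_assoc]; rfl
  haveI : Fintype (fixK hF) := Fintype.ofFinite _
  have hgen : ∀ K : Subfield (fixK hF), ν ∈ K → K = ⊤ := subfield_eq_top fun r e hr he hre hν => by
    rw [← Nat.card_eq_fintype_card, card_fixK hF] at hre
    exact P.nrm_gen hF h2 h3 h5 hr he hre (congrArg Subtype.val hν)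
  have htop : S = ⊤ := params_eq_top one_ne_zero h1 hst hgen
  have hbq : (b / z0) ^ q = b / z0 := by
    have hzq : z0 ^ q = -z0 := by rw [hz0def, sub_pow_q hF, pow_q_q hF]; ring
    rw [div_pow, hzq, eq_neg_of_add_eq_zero_right hb, neg_div_neg_eq]
  obtain ⟨g, hg, e⟩ := (htop ▸ AddSubgroup.mem_top _ : (⟨b / z0, hbq⟩ : fixK hF) ∈ S)
  exact ⟨g, hg, by rw [e, div_mul_cancel₀ _ hz0]⟩

theorem wgrp_eq : wgrp (q - 1) h x = Usub hF hfr := by
  refine le_antisymm (wgrp_le hF hfr Γ _) ?_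
  rintro g ⟨a, b, hab, e⟩
  let S : AddSubgroup F :=
    { carrier := {a | ∃ g ∈ wgrp (q - 1) h x, ∃ b, fmat q u w f g = Umat q a b}
      zero_mem' := ⟨1, one_mem _, 0, by rw [fmat_one hF hfr, Umat_zero hF]⟩
      add_mem' := by
        rintro r s ⟨g, hg, b, e⟩ ⟨g', hg', b', e'⟩
        exact ⟨g * g', mul_mem hg hg', _, by rw [fmat_mul hF hfr, e, e', Umat_mul hF]⟩
      neg_mem' := by
        rintro r ⟨g, hg, b, e⟩
        obtain ⟨c, d, -, ed⟩ := wgrp_le hF hfr Γ _ (inv_mem hg)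
        refine ⟨g⁻¹, inv_mem hg, d, ?_⟩
        have h1 : fmat q u w f g⁻¹ * fmat q u w f g = 1 := by
          rw [← fmat_mul hF hfr, inv_mul_cancel, fmat_one hF hfr]
        rw [ed, e, Umat_mul hF] at h1
        have h1' := congrFun (congrFun h1 0) 1
        simp [Umat] at h1'
        rw [ed, eq_neg_of_add_eq_zero_left h1'] }
  have hS : S = ⊤ := P.span_top hF h2 h3 h5 S fun k hk n =>
    ⟨_, Subgroup.subset_closure ⟨⟨⟨k, hk⟩, n⟩, rfl⟩, _, by
      rw [fmat_cnj hF hfr Γ, pow_add, pow_mul, show P.kap ^ (q - 1) = P.cEl from rfl]⟩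
  obtain ⟨g', hg', b', e'⟩ := (hS ▸ AddSubgroup.mem_top a : a ∈ S)
  obtain ⟨g1, hg1, c, e1⟩ := (hS ▸ AddSubgroup.mem_top (1 : F) : (1 : F) ∈ S)
  obtain ⟨a₂, d, hd, ed⟩ := wgrp_le hF hfr Γ _ hg'
  obtain rfl : a₂ = a := by
    have := congrFun (congrFun (ed.symm.trans e') 0) 1
    simpa [Umat] using this
  obtain rfl : d = b' := by
    have := congrFun (congrFun (ed.symm.trans e') 0) 2
    simpa [Umat] using this
  have hb : (b - d) + (b - d) ^ q = 0 := by
    have h1 : b + b ^ q + a₂ * a₂ ^ q = 0 := hab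
    have h4 : d + d ^ q + a₂ * a₂ ^ q = 0 := hd
    rw [sub_pow_q hF]
    linear_combination h1 - h4
  obtain ⟨δ, hδ0, hδ⟩ := exists_skew hF
  obtain ⟨y, hy⟩ := exists_trace_eq hF (a := (b - d) / δ)
    (by rw [div_pow, eq_neg_of_add_eq_zero_right hb, hδ, neg_div_neg_eq])
  obtain ⟨g2, hg2, d2, e2⟩ := (hS ▸ AddSubgroup.mem_top (-(δ * y)) : -(δ * y) ∈ S)
  have ez := fmat_comm hF hfr e2 e1
  have hzy : (1 : F) * (-(δ * y)) ^ q - -(δ * y) * 1 ^ q = b - d := by
    rw [neg_pow_q hF, mul_pow, hδ, one_pow]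
    field_simp at hy
    linear_combination hy
  rw [hzy] at ez
  have : g = g2 * g1 * g2⁻¹ * g1⁻¹ * g' := fmat_inj hF hfr (by
    rw [fmat_mul hF hfr, ez, e', e, Umat_mul hF, zero_mul, zero_add, sub_zero, sub_add_cancel])
  rw [this]
  exact mul_mem (mul_mem (mul_mem (mul_mem hg2 hg1) (inv_mem hg2)) (inv_mem hg1)) hg'

theorem gens_top : Subgroup.closure (Set.range ![x, h, t]) = ⊤ := by
  set H := Subgroup.closure (Set.range ![x, h, t])
  have hok : Ok q (-1 : F) β := by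
    have := Γ.hβ
    simp only [Ok, neg_pow_q hF, neg_mul_neg, one_pow, one_mul] at *
    exact this
  have hxe : eSU hF (hok.spec hfr) = x := eq_of_ap hfr fun p r s => by
    have h1 := ap_vec hF hfr x ![p, r, s]
    simp only [cons_val_zero, cons_val_one, cons_val_two] at h1
    rw [ap_E hF hfr hok]
    refine Eq.trans ?_ h1.symm
    rw [Γ.hx]
    simp [Umat, Matrix.mulVec, dotProduct, Fin.sum_univ_three, neg_pow_q hF]
  have hap : ∀ (g : SU 3 F q) (p r s : F), ap g (vec u w f p r s) =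
      vec u w f ((fmat q u w f g *ᵥ ![p, r, s]) 0) ((fmat q u w f g *ᵥ ![p, r, s]) 1)
        ((fmat q u w f g *ᵥ ![p, r, s]) 2) := fun g p r s => ap_vec hF hfr g ![p, r, s]
  have hq : 3 ≤ q := by have := two_le_q hF; omega
  refine eq_top_of hF hq hfr H hok (neg_ne_zero.2 one_ne_zero) (hxe ▸ Subgroup.subset_closure ⟨0, rfl⟩)
    (h := h) (Subgroup.subset_closure ⟨1, rfl⟩) (μ := P.ζ) (ν := P.ζ ^ q / P.ζ) (κ := 0)
    ?_ ?_ ?_ (g := t) (Subgroup.subset_closure ⟨2, rfl⟩) ?_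
  · rw [hap, Γ.hh]
    simp [Dmat, Matrix.mulVec, dotProduct, Fin.sum_univ_three]
  · rw [hap, Γ.hh]
    simp [Dmat, Matrix.mulVec, dotProduct, Fin.sum_univ_three]
  · intro r e hr he hre hk
    refine P.kap_gen hF h2 h3 h5 r e hr he hre (pow_q_injective hF ?_)
    show (P.kap ^ r) ^ q = P.kap ^ q
    rw [pow_right_comm, P.kap_pow_q hF]
    have e' : P.ζ ^ q * (P.ζ ^ q / P.ζ) = (P.ζ ^ q) ^ 2 / P.ζ := by ring
    rw [← e']
    exact hk
  · rw [hap, Γ.ht, hfr.coord_u]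
    simp [Tmat, Matrix.mulVec, dotProduct, Fin.sum_univ_three]

end Cfsg.Agent.H68.ShortSU
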