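import Cfsg.Agent.H52.SUThree

/-!
Parameters for short presentations of `SU₃(q)`: the torus characters `κ`, `N`, the element
`c = κ^(q-1)`, and the field form of the closure argument which spreads the Weyl relation from
two seeds to every unipotent parameter.
-/

set_option autoImplicit false
set_option linter.unusedSectionVars false

namespace Cfsg.Agent.H68.ShortSU

open Cfsg Cfsg.Agent.Unitary Cfsg.Agent.H52.SUThree
open Polynomial

variable {F : Type*} [Field F] [Fintype F] {q : ℕ}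

/-- A primitive element of the field with `q²` elements. -/
structure Prim (F : Type*) [Field F] (q : ℕ) where
  ζ : F
  ne0 : ζ ≠ 0
  surj : ∀ x : F, x ≠ 0 → ∃ n : ℕ, 1 ≤ n ∧ ζ ^ n = x
  pow_one : ∀ n : ℕ, ζ ^ n = 1 ↔ q ^ 2 - 1 ∣ n

theorem exists_prim (hF : Fintype.card F = q ^ 2) : Nonempty (Prim F q) := by
  obtain ⟨g, hg⟩ := IsCyclic.exists_generator (α := Fˣ)
  have hord : orderOf g = q ^ 2 - 1 := by
    rw [orderOf_eq_card_of_forall_mem_zpowers hg, Nat.card_units, Nat.card_eq_fintype_card, hF]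
  refine ⟨⟨g, g.ne_zero, fun x hx => ?_, fun n => ?_⟩⟩
  · obtain ⟨n, hn⟩ := (mem_powers_iff_mem_zpowers).2 (hg (Units.mk0 x hx))
    have hn' : g ^ n = Units.mk0 x hx := hn
    refine ⟨n + orderOf g, by have := orderOf_pos g; omega, ?_⟩
    rw [← Units.val_pow_eq_pow_val, pow_add, pow_orderOf_eq_one, mul_one, hn', Units.val_mk0]
  · rw [← hord, ← Units.val_pow_eq_pow_val, Units.val_eq_one, ← orderOf_dvd_iff_pow_eq_one]

/-- Powers of a nonzero `κ` generate the field when `κ` avoids the proper subfields. -/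
theorem aeval_surj {p : ℕ} [Fact p.Prime] [Algebra (ZMod p) F] {κ : F}
    (hκ : ∀ r e : ℕ, 2 ≤ r → 2 ≤ e → r ^ e = Fintype.card F → κ ^ r ≠ κ) (u : F) :
    ∃ P : (ZMod p)[X], aeval κ P = u := by
  classical
  let S : Subring F := (aeval (R := ZMod p) κ).toRingHom.range
  let K : Subfield F :=
    { S with
      inv_mem' := fun x hx => by
        rcases eq_or_ne x 0 with rfl | h0
        · rw [_root_.inv_zero]; exact hx
        have hc : x ^ (Fintype.card F - 1 - 1) * x = 1 := by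
          rw [← pow_succ, Nat.sub_add_cancel (by have := Fintype.one_lt_card (α := F); omega),
            FiniteField.pow_card_sub_one_eq_one x h0]
        rw [← eq_inv_of_mul_eq_one_left hc]
        exact S.pow_mem hx _ }
  have htop : K = ⊤ := subfield_eq_top hκ K ⟨X, aeval_X κ⟩
  exact (htop ▸ Subfield.mem_top u : u ∈ K)

namespace Prim

variable (P : Prim F q)

/-- Action of the torus on the first coordinate. -/
def kap : F := P.ζ ^ 2 / P.ζ ^ q

/-- Action of the torus on the centre. -/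
def nrm : F := P.ζ * P.ζ ^ q

/-- An element of norm one, a power of `kap`. -/
def cEl : F := P.kap ^ (q - 1)

theorem zq_ne : P.ζ ^ q ≠ 0 := pow_ne_zero _ P.ne0

theorem kap_ne : P.kap ≠ 0 := div_ne_zero (pow_ne_zero _ P.ne0) P.zq_ne

theorem cEl_ne : P.cEl ≠ 0 := pow_ne_zero _ P.kap_ne

variable (hF : Fintype.card F = q ^ 2)

include hF

theorem kap_pow_q : P.kap ^ q = (P.ζ ^ q) ^ 2 / P.ζ := by
  rw [kap, div_pow, pow_q_q hF, pow_right_comm]

theorem kap_norm : P.kap * P.kap ^ q = P.nrm := by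
  have := P.zq_ne; have := P.ne0
  rw [P.kap_pow_q hF, kap, nrm]
  field_simp

theorem nrm_fixed : P.nrm ^ q = P.nrm := norm_pow_q hF _

theorem cube : P.ζ ^ 3 = P.kap ^ (q + 2) := by
  have := P.zq_ne; have := P.ne0
  rw [pow_add P.kap, P.kap_pow_q hF, kap]
  field_simp

theorem kap_period : P.kap ^ (q ^ 2 - 1) = 1 := by
  rw [kap, div_pow, pow_right_comm, pow_right_comm P.ζ q, (P.pow_one _).2 dvd_rfl, one_pow,
    one_pow, div_one]

theorem kap_pow_one {n : ℕ} (h : P.kap ^ n = 1) : q ^ 2 - 1 ∣ 3 * n := by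
  rw [kap, div_pow, div_eq_one_iff_eq (pow_ne_zero _ P.zq_ne), pow_right_comm,
    pow_right_comm P.ζ q] at h
  refine (P.pow_one _).1 ?_
  set y := P.ζ ^ n with hy
  have hy0 : y ≠ 0 := pow_ne_zero _ P.ne0
  have h4 : y ^ 4 = y := by
    have h1 := congrArg (· ^ q) h
    simp only [pow_q_q hF] at h1
    rw [pow_right_comm, ← h] at h1
    linear_combination h1
  rw [mul_comm, pow_mul, ← hy]
  refine mul_right_cancel₀ hy0 ?_
  rw [one_mul, ← pow_succ]
  exact h4

theorem cEl_norm : P.cEl * P.cEl ^ q = 1 := by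
  rw [cEl, ← pow_succ', ← pow_mul]
  rw [show (q - 1) * (q + 1) = q ^ 2 - 1 by
    obtain ⟨m, rfl⟩ : ∃ m, q = m + 1 := ⟨q - 1, by have := q_pos hF; omega⟩
    simp only [Nat.add_sub_cancel]
    have e : (m + 1) ^ 2 = m * (m + 1 + 1) + 1 := by ring
    omega]
  exact P.kap_period hF

theorem dvd_of_cEl_pow {n : ℕ} (h : P.cEl ^ n = 1) : q + 1 ∣ 3 * n := by
  rw [cEl, ← pow_mul] at h
  have h1 := P.kap_pow_one hF h
  have hq : 0 < q - 1 := by have := two_le_q hF; omega
  refine Nat.dvd_of_mul_dvd_mul_left hq ?_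
  rw [show (q - 1) * (q + 1) = q ^ 2 - 1 by
    rw [show q ^ 2 - 1 = q ^ 2 - 1 ^ 2 by simp, Nat.sq_sub_sq, mul_comm],
    show (q - 1) * (3 * n) = 3 * ((q - 1) * n) by ring]
  exact h1

variable (h2 : q ≠ 2) (h3 : q ≠ 3) (h5 : q ≠ 5)

include h2 h3 h5

theorem cEl_sq : P.cEl ^ 2 ≠ 1 := by
  intro h
  have h1 := Nat.le_of_dvd (by norm_num) (P.dvd_of_cEl_pow hF h)
  have := two_le_q hF
  have h4 : q = 4 := by omega
  have h6 := P.dvd_of_cEl_pow hF h
  rw [h4] at h6
  norm_num at h6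

theorem cEl_q_ne : P.cEl ^ q ≠ P.cEl := fun h => P.cEl_sq hF h2 h3 h5 (by
  rw [pow_two]
  conv_lhs => arg 2; rw [← h]
  exact P.cEl_norm hF)

theorem kap_gen (r e : ℕ) (hr : 2 ≤ r) (he : 2 ≤ e) (hre : r ^ e = Fintype.card F) :
    P.kap ^ r ≠ P.kap := by
  intro h
  have h1 : P.kap ^ (r - 1) = 1 := by
    refine mul_right_cancel₀ P.kap_ne ?_
    rw [one_mul, ← pow_succ, Nat.sub_add_cancel (by omega)]
    exact h
  have h4 := Nat.le_of_dvd (by omega) (P.kap_pow_one hF h1)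
  have h6 : r ^ 2 ≤ q ^ 2 := by
    rw [← hF, ← hre]; exact Nat.pow_le_pow_right (by omega) he
  have h7 : r ≤ q := Nat.pow_le_pow_iff_left (by omega) |>.1 h6
  have := two_le_q hF
  have h8 : q ^ 2 - 1 ≤ 3 * (q - 1) := h4.trans (by omega)
  have h9 : 3 * q ≤ q ^ 2 := by rw [pow_two]; exact Nat.mul_le_mul_right q (by omega)
  omega

theorem nrm_gen {r e : ℕ} (hr : 2 ≤ r) (he : 2 ≤ e) (hre : r ^ e = q) : P.nrm ^ r ≠ P.nrm := by
  intro h
  have hn0 : P.nrm ≠ 0 := mul_ne_zero P.ne0 P.zq_ne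
  have h1 : P.nrm ^ (r - 1) = 1 := by
    refine mul_right_cancel₀ hn0 ?_
    rw [one_mul, ← pow_succ, Nat.sub_add_cancel (by omega)]
    exact h
  rw [nrm, ← pow_succ', ← pow_mul, P.pow_one,
    show q ^ 2 - 1 = q ^ 2 - 1 ^ 2 by simp, Nat.sq_sub_sq] at h1
  have h4 := Nat.le_of_dvd (by omega) (Nat.dvd_of_mul_dvd_mul_left (by omega) h1)
  have h6 : r ^ 2 ≤ q := by rw [← hre]; exact Nat.pow_le_pow_right (by omega) he
  have h7 : r < q := lt_of_lt_of_le (by nlinarith) h6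
  omega

/-- The field is spanned by `1, κ, κ²` times powers of `c`. -/
theorem span_top (S : AddSubgroup F) (hS : ∀ k < 3, ∀ n : ℕ, P.kap ^ k * P.cEl ^ n ∈ S) : S = ⊤ := by
  classical
  set G : Set F := {y | ∃ k < 3, ∃ n : ℕ, y = P.kap ^ k * P.cEl ^ n} with hG
  set L := AddSubgroup.closure G with hL
  have hgen : ∀ k < 3, ∀ n : ℕ, P.kap ^ k * P.cEl ^ n ∈ L := fun k hk n =>
    AddSubgroup.subset_closure ⟨k, hk, n, rfl⟩
  have hstab : ∀ y : F, (∀ k < 3, ∀ n : ℕ, y * (P.kap ^ k * P.cEl ^ n) ∈ L) →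
      ∀ z ∈ L, y * z ∈ L := by
    intro y hy z hz
    induction hz using AddSubgroup.closure_induction with
    | mem z hz => obtain ⟨k, hk, n, rfl⟩ := hz; exact hy k hk n
    | zero => rw [mul_zero]; exact zero_mem _
    | add a b _ _ ha hb => rw [mul_add]; exact add_mem ha hb
    | neg a _ ha => rw [mul_neg]; exact neg_mem ha
  let R : Subring F :=
    { carrier := {y | ∀ z ∈ L, y * z ∈ L}
      mul_mem' := fun hx hy z hz => by rw [mul_assoc]; exact hx _ (hy z hz)
      one_mem' := fun z hz => by rwa [one_mul]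
      add_mem' := fun hx hy z hz => by rw [add_mul]; exact L.add_mem (hx z hz) (hy z hz)
      zero_mem' := fun z _ => by rw [zero_mul]; exact L.zero_mem
      neg_mem' := fun hx z hz => by rw [neg_mul]; exact L.neg_mem (hx z hz) }
  let K : Subfield F :=
    { R with
      inv_mem' := fun x hx => by
        rcases eq_or_ne x 0 with rfl | h0
        · rw [_root_.inv_zero]; exact hx
        have hc : x ^ (Fintype.card F - 1 - 1) * x = 1 := by
          rw [← pow_succ, Nat.sub_add_cancel (by have := Fintype.one_lt_card (α := F); omega),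
            FiniteField.pow_card_sub_one_eq_one x h0]
        rw [← eq_inv_of_mul_eq_one_left hc]
        exact R.pow_mem hx _ }
  have hc : P.cEl ∈ K := hstab _ fun k hk n => by
    rw [show P.cEl * (P.kap ^ k * P.cEl ^ n) = P.kap ^ k * P.cEl ^ (n + 1) by ring]
    exact hgen k hk _
  haveI : Fintype K := Fintype.ofFinite K
  have hcard : Fintype.card F = Fintype.card K ^ Module.finrank K F := Module.card_eq_pow_finrank
  set r := Fintype.card K
  set e := Module.finrank K F with he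
  have hr : 2 ≤ r := Fintype.one_lt_card
  have he3 : e ≤ 3 := by
    by_contra hlt
    have h1 : P.cEl ^ r = P.cEl :=
      congrArg Subtype.val (FiniteField.pow_card (⟨P.cEl, hc⟩ : K))
    have h4 : P.cEl ^ (r - 1) = 1 := by
      refine mul_right_cancel₀ P.cEl_ne ?_
      rw [one_mul, ← pow_succ, Nat.sub_add_cancel (by omega)]
      exact h1
    have h6 := Nat.le_of_dvd (by omega) (P.dvd_of_cEl_pow hF h4)
    have h7 : r ^ 4 ≤ q ^ 2 := by
      rw [← hF, hcard]; exact Nat.pow_le_pow_right (by omega) (by omega)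
    have h8 : q < 3 * r := by omega
    have h9 : r ^ 4 < (3 * r) ^ 2 := lt_of_le_of_lt h7 (Nat.pow_lt_pow_left h8 (by omega))
    have h10 : r ^ 2 < 9 := by nlinarith
    have h11 : r < 3 := by nlinarith
    have := two_le_q hF
    omega
  set Q : K[X] := minpoly K P.kap * X ^ (3 - (minpoly K P.kap).natDegree) with hQ
  have hint : IsIntegral K P.kap := Algebra.IsIntegral.isIntegral _
  have hmon : Q.Monic := (minpoly.monic hint).mul (monic_X_pow _)
  have hdeg : Q.natDegree = 3 := by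
    have hle : (minpoly K P.kap).natDegree ≤ 3 := (minpoly.natDegree_le _).trans he3
    rw [hQ, (minpoly.monic hint).natDegree_mul (monic_X_pow _), natDegree_X_pow]
    omega
  have h0 : aeval P.kap Q = 0 := by rw [hQ, map_mul, minpoly.aeval, zero_mul]
  have hk3 : P.kap ^ 3 ∈ L := by
    rw [aeval_eq_sum_range, hdeg, Finset.sum_range_succ] at h0
    have hl : Q.coeff 3 = 1 := by rw [← hdeg]; exact hmon
    rw [hl, one_smul] at h0
    rw [eq_neg_of_add_eq_zero_right h0]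
    refine neg_mem (sum_mem fun i hi => ?_)
    rw [Subfield.smul_def, smul_eq_mul]
    refine (Q.coeff i).2 _ ?_
    have := hgen i (Finset.mem_range.1 hi) 0
    rwa [pow_zero, mul_one] at this
  have hκ : ∀ z ∈ L, P.kap * z ∈ L := hstab _ fun k hk n => by
    rw [show P.kap * (P.kap ^ k * P.cEl ^ n) = P.cEl ^ n * P.kap ^ (k + 1) by ring]
    have hcn : P.cEl ^ n ∈ K := pow_mem hc n
    refine hcn _ ?_
    rcases (show k + 1 < 3 ∨ k + 1 = 3 by omega) with h | h
    · have := hgen (k + 1) h 0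
      rwa [pow_zero, mul_one] at this
    · rw [h]; exact hk3
  have htop : L = ⊤ := params_eq_top one_ne_zero (by
      have := hgen 0 (by norm_num) 0
      rwa [pow_zero, pow_zero, mul_one] at this) hκ
    (subfield_eq_top (P.kap_gen hF h2 h3 h5))
  rw [eq_top_iff, ← htop, hL, AddSubgroup.closure_le]
  rintro _ ⟨k, hk, n, rfl⟩
  exact hS k hk n

end Prim

/-- Membership in the group of powers of `κ`. -/
def InC (P : Prim F q) (x : F) : Prop := ∃ n : ℕ, P.kap ^ n = x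

theorem InC.mul {P : Prim F q} {x y : F} (hx : InC P x) (hy : InC P y) : InC P (x * y) := by
  obtain ⟨m, rfl⟩ := hx
  obtain ⟨n, rfl⟩ := hy
  exact ⟨m + n, pow_add _ _ _⟩

theorem InC.pow {P : Prim F q} {x : F} (hx : InC P x) (n : ℕ) : InC P (x ^ n) := by
  obtain ⟨m, rfl⟩ := hx
  exact ⟨m * n, pow_mul _ _ _⟩

theorem InC.inv (hF : Fintype.card F = q ^ 2) {P : Prim F q} {x : F} (hx : InC P x) :
    InC P x⁻¹ := by
  obtain ⟨m, rfl⟩ := hx
  refine ⟨(q ^ 2 - 1 - 1) * m, ?_⟩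
  rw [← inv_pow, pow_mul]
  congr 1
  refine (inv_eq_of_mul_eq_one_left ?_).symm
  rw [← pow_succ, Nat.sub_add_cancel, P.kap_period hF]
  have : 4 ≤ q ^ 2 := Nat.pow_le_pow_left (two_le_q hF) 2
  omega

theorem InC.cube_pow (hF : Fintype.card F = q ^ 2) (P : Prim F q) {n : ℕ} (h : 3 ∣ n) :
    InC P (P.ζ ^ n) := by
  obtain ⟨m, rfl⟩ := h
  rw [pow_mul, P.cube hF]
  exact InC.pow ⟨q + 2, rfl⟩ m

/-- `1 + c` is a power of `κ`. -/
theorem exists_one_add (hF : Fintype.card F = q ^ 2) (h2 : q ≠ 2) (h3 : q ≠ 3) (h5 : q ≠ 5)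
    (P : Prim F q) : ∃ j : ℕ, P.kap ^ j = 1 + P.cEl := by
  have hne : 1 + P.cEl ≠ 0 := fun h => P.cEl_sq hF h2 h3 h5 (by
    rw [eq_neg_of_add_eq_zero_right h]; ring)
  obtain ⟨m, -, hm⟩ := P.surj _ hne
  show InC P (1 + P.cEl)
  rw [← hm]
  have hq := two_le_q hF
  rcases (show q % 3 = 0 ∨ q % 3 = 1 ∨ q % 3 = 2 by omega) with hr | hr | hr
  · obtain ⟨s, rfl⟩ : 3 ∣ q := by omega
    have h1 : InC P (P.ζ ^ 2) := by
      have : P.ζ ^ 2 = P.kap * P.ζ ^ (3 * s) := by rw [Prim.kap, div_mul_cancel₀ _ P.zq_ne]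
      rw [this]
      exact InC.mul ⟨1, pow_one _⟩ (InC.cube_pow hF P (dvd_mul_right 3 s))
    have h4 : InC P P.ζ := by
      have : P.ζ = P.ζ ^ 3 * (P.ζ ^ 2)⁻¹ := by
        have := P.ne0; field_simp
      rw [this]
      exact (InC.cube_pow hF P dvd_rfl).mul (h1.inv hF)
    exact h4.pow m
  · obtain ⟨s, rfl⟩ : ∃ s, q = 3 * s + 1 := ⟨q / 3, by omega⟩
    have h4 : InC P P.ζ := by
      have : P.ζ = P.kap * P.ζ ^ (3 * s) := by
        have e : P.ζ ^ (3 * s + 1) = P.ζ ^ (3 * s) * P.ζ := pow_succ _ _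
        have := P.ne0
        rw [Prim.kap, e]
        field_simp
      rw [this]
      exact InC.mul ⟨1, pow_one _⟩ (InC.cube_pow hF P (dvd_mul_right 3 s))
    exact h4.pow m
  · obtain ⟨s, hs⟩ : ∃ s, q = 3 * s + 2 := ⟨q / 3, by omega⟩
    refine InC.cube_pow hF P ?_
    have hcs : P.cEl ^ (s + 1) = 1 := by
      rw [Prim.cEl, ← pow_mul, Prim.kap, div_pow, div_eq_one_iff_eq (pow_ne_zero _ P.zq_ne),
        ← pow_mul, ← pow_mul]
      have e : q * ((q - 1) * (s + 1)) = 2 * ((q - 1) * (s + 1)) + (q ^ 2 - 1) * s := by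
        obtain ⟨m, rfl⟩ : ∃ m, q = m + 1 := ⟨q - 1, by omega⟩
        rw [show (m + 1) ^ 2 - 1 = m * (m + 2) by
          have e : (m + 1) ^ 2 = m * (m + 2) + 1 := by ring
          omega, Nat.add_sub_cancel]
        have : m = 3 * s + 1 := by omega
        subst this
        ring
      rw [e, pow_add, pow_mul, pow_mul P.ζ (q ^ 2 - 1), (P.pow_one _).2 dvd_rfl, one_pow, mul_one]
    have hq' : P.cEl * (1 + P.cEl) ^ q = 1 + P.cEl := by
      rw [add_pow_q hF, one_pow, mul_add, mul_one, P.cEl_norm hF, add_comm]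
    have h1 := congrArg (· ^ (s + 1)) hq'
    simp only [mul_pow, hcs, one_mul] at h1
    rw [← hm, ← pow_mul, ← pow_mul, ← pow_mul] at h1
    have h4 : P.ζ ^ (m * ((q - 1) * (s + 1))) = 1 := by
      refine mul_right_cancel₀ (pow_ne_zero (m * (s + 1)) P.ne0) ?_
      rw [one_mul, ← pow_add]
      rw [show m * ((q - 1) * (s + 1)) + m * (s + 1) = m * q * (s + 1) by
        obtain ⟨t, rfl⟩ : ∃ t, q = t + 1 := ⟨q - 1, by omega⟩
        rw [Nat.add_sub_cancel]; ring]
      simpa only [mul_assoc] using h1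
    have h6 := (P.pow_one _).1 h4
    rw [show q ^ 2 - 1 = q ^ 2 - 1 ^ 2 by simp, Nat.sq_sub_sq,
      show q + 1 = 3 * (s + 1) by omega] at h6
    rw [show m * ((q - 1) * (s + 1)) = m * ((s + 1) * (q - 1)) by ring,
      show 3 * (s + 1) * (q - 1) = 3 * ((s + 1) * (q - 1)) by ring] at h6
    exact Nat.dvd_of_mul_dvd_mul_right (Nat.mul_pos (by omega) (by omega)) h6

section Params

theorem Ok.mul (hF : Fintype.card F = q ^ 2) {a b c d : F} (h : Ok q a b) (h' : Ok q c d) :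
    Ok q (a + c) (b + d - a * c ^ q) := by
  simp only [Ok, add_pow_q hF, sub_pow_q hF, mul_pow, pow_q_q hF] at *
  linear_combination h + h'

theorem Ok.scale (hF : Fintype.card F = q ^ 2) {a b : F} (h : Ok q a b) (m : F) :
    Ok q (m * a) (m * m ^ q * b) := by
  simp only [Ok, mul_pow, pow_q_q hF] at *
  linear_combination (m * m ^ q) * h

theorem Ok.left' (hF : Fintype.card F = q ^ 2) {a b : F} (h : Ok q a b) (hb : b ≠ 0) :
    Ok q (-a / b ^ q) (1 / b) := by
  have hbq := (pow_q_eq_zero_iff hF).not.2 hb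
  simp only [Ok, div_pow, neg_pow_q hF, one_pow, pow_q_q hF] at *
  field_simp
  linear_combination h

theorem Ok.right' (hF : Fintype.card F = q ^ 2) {a b : F} (h : Ok q a b) (hb : b ≠ 0) :
    Ok q (-a / b) (1 / b) := by
  have hbq := (pow_q_eq_zero_iff hF).not.2 hb
  simp only [Ok, div_pow, neg_pow_q hF, one_pow] at *
  field_simp
  linear_combination h

theorem Ok.rot (hF : Fintype.card F = q ^ 2) {a b : F} (h : Ok q a b) (hb : b ≠ 0) :
    Ok q (a / b ^ q) (1 / b ^ q) := by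
  have hbq := (pow_q_eq_zero_iff hF).not.2 hb
  simp only [Ok, div_pow, one_pow, pow_q_q hF] at *
  field_simp
  linear_combination h

theorem eq_zero_of_b {a : F} (hF : Fintype.card F = q ^ 2) (h : Ok q a 0) : a = 0 := by
  simp only [Ok, zero_pow (q_ne_zero hF), zero_add, mul_eq_zero] at h
  exact h.elim id (pow_q_eq_zero_iff hF).1

theorem exists_a (hF : Fintype.card F = q ^ 2) (b : F) : ∃ a, Ok q a b := by
  obtain ⟨a, ha⟩ := exists_norm_eq hF (a := -(b + b ^ q))
    (by rw [neg_pow_q hF, trace_pow_q hF])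
  exact ⟨a, by rw [Ok, ha, add_neg_cancel]⟩

/-- Two parameters of the class of `β` whose product has the class of `χ`. -/
theorem circle (hF : Fintype.card F = q ^ 2) {β χ : F} (hT : β + β ^ q ≠ 0) (hβ : β ^ q ≠ β)
    (hD : χ * β ^ q - χ ^ q * β ≠ 0) :
    ∃ a c μ k : F, μ ≠ 0 ∧ μ ^ q = μ ∧ k ≠ 0 ∧ k ^ q = k ∧ Ok q a β ∧ Ok q c (μ * β) ∧
      β + μ * β - a * c ^ q = k * χ := by
  have hχ : χ ≠ 0 := by rintro rfl; simp [q_ne_zero hF] at hD
  have hχq := (pow_q_eq_zero_iff hF).not.2 hχ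
  set T := β + β ^ q with hTdef
  have hTq : T ^ q = T := trace_pow_q hF β
  set D := χ * β ^ q - χ ^ q * β with hDdef
  have hDq : D ^ q = -D := by
    rw [hDdef, sub_pow_q hF, mul_pow, mul_pow, pow_q_q hF, pow_q_q hF]; ring
  set η := T * T * χ / D with hη
  have hηq : η ^ q = -(T * T * χ ^ q / D) := by
    rw [hη, div_pow, mul_pow, mul_pow, hTq, hDq, div_neg]
  obtain ⟨z, hz⟩ := exists_norm_eq hF (a := η * η ^ q - T * T)
    (by rw [sub_pow_q hF, norm_pow_q hF, mul_pow, hTq])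
  set y := z + η with hy
  set s := (χ * y ^ q - χ ^ q * y) / D with hs
  have hsq : s ^ q = s := by
    rw [hs, div_pow, sub_pow_q hF, mul_pow, mul_pow, pow_q_q hF, pow_q_q hF, hDq,
      eq_div_iff hD]
    field_simp
    ring
  have hN : y * y ^ q = (s - 1) * (T * T) := by
    have e : T * T * s = y * η ^ q + y ^ q * η := by
      rw [hηq, hη, hs]; field_simp; ring
    rw [hy, add_pow_q hF] at e ⊢
    linear_combination hz - e
  have hTT : T * T ≠ 0 := mul_ne_zero hT hT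
  have hμ : s - 1 ≠ 0 := fun h => by
    rw [h, zero_mul, mul_eq_zero] at hN
    have hy0 : y = 0 := hN.elim id (pow_q_eq_zero_iff hF).1
    have : s = 0 := by rw [hs, hy0]; simp [q_ne_zero hF]
    rw [this, zero_sub, neg_eq_zero] at h
    exact one_ne_zero h
  have hμq : (s - 1) ^ q = s - 1 := by rw [sub_pow_q hF, hsq, one_pow]
  obtain ⟨a, ha⟩ := exists_a hF β
  have ha0 : a ≠ 0 := by
    rintro rfl
    exact hT (by simpa [Ok] using ha)
  have haq := (pow_q_eq_zero_iff hF).not.2 ha0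
  have hNa : a * a ^ q = -T := by
    have h : β + β ^ q + a * a ^ q = 0 := ha
    linear_combination h
  set c := (y / a) ^ q with hc
  have hac : a * c ^ q = y := by rw [hc, pow_q_q hF, mul_div_cancel₀ _ ha0]
  have hNc : c * c ^ q = -((s - 1) * T) := by
    rw [hc, pow_q_q hF, div_pow]
    field_simp
    linear_combination hN + (s - 1) * T * hNa
  have hOc : Ok q c ((s - 1) * β) := by
    rw [Ok, mul_pow, hμq, hNc]; ring
  set k := (s * β - y) / χ with hk
  have hkq : k ^ q = k := by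
    rw [hk, div_pow, sub_pow_q hF, mul_pow, hsq, div_eq_div_iff hχq hχ]
    have e : s * D = χ * y ^ q - χ ^ q * y := by rw [hs, div_mul_cancel₀ _ hD]
    linear_combination e
  have hkχ : k * χ = s * β - y := by rw [hk, div_mul_cancel₀ _ hχ]
  refine ⟨a, c, s - 1, k, hμ, hμq, ?_, hkq, ha, hOc, by rw [hkχ, hac]; ring⟩
  intro h0
  have h1 := Ok.mul hF ha hOc
  rw [hac, show β + (s - 1) * β - y = s * β - y by ring, ← hkχ, h0, zero_mul] at h1
  have hac0 : c = -a := by linear_combination eq_zero_of_b hF h1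
  rw [hac0, neg_pow_q hF, neg_mul_neg, hNa] at hNc
  have hs2 : s = 2 := by
    have : T * (s - 2) = 0 := by linear_combination hNc
    exact sub_eq_zero.1 ((mul_eq_zero.1 this).resolve_left hT)
  rw [h0, zero_mul, hs2, ← hac, hac0, neg_pow_q hF, mul_neg, hNa] at hkχ
  exact hβ (by linear_combination hkχ)

variable (R : F → F → Prop)

/-- All parameters of a seed's class. -/
theorem seed_class (hF : Fintype.card F = q ^ 2) (P : Prim F q)
    (hκ : ∀ a b, Ok q a b → R a b → R (P.kap * a) (P.nrm * b))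
    (hrot : ∀ a b, Ok q a b → b ≠ 0 → R a b → R (a / b ^ q) (1 / b ^ q))
    {ε : ℕ} (hε : ¬ 3 ∣ ε) (hT : P.ζ ^ ε + (P.ζ ^ ε) ^ q ≠ 0) {a₀ : F}
    (h₀ : Ok q a₀ (P.ζ ^ ε)) (hR : R a₀ (P.ζ ^ ε)) {a r : F} (hr : r ^ q = r)
    (hr0 : r ≠ 0) (ha : Ok q a (r * P.ζ ^ ε)) : R a (r * P.ζ ^ ε) := by
  set b₀ := P.ζ ^ ε with hb₀
  have hb : b₀ ≠ 0 := pow_ne_zero _ P.ne0
  have hbq : b₀ ^ q ≠ 0 := pow_ne_zero _ hb
  have ha0 : a₀ ≠ 0 := by rintro rfl; exact hT (by simpa [Ok] using h₀)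
  let M : F → Prop := fun m => R (m * a₀) (m * m ^ q * b₀)
  have hM1 : M 1 := by show R _ _; rw [one_pow, one_mul, one_mul, one_mul]; exact hR
  have hMκ : ∀ m, M m → ∀ x, InC P x → M (x * m) := by
    rintro m hm _ ⟨n, rfl⟩
    induction n with
    | zero => rwa [pow_zero, one_mul]
    | succ n ih =>
      have := hκ _ _ (Ok.scale hF h₀ _) ih
      rw [← P.kap_norm hF] at this
      show R _ _
      rw [show P.kap ^ (n + 1) * m * a₀ = P.kap * (P.kap ^ n * m * a₀) by ring,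
        show P.kap ^ (n + 1) * m * (P.kap ^ (n + 1) * m) ^ q * b₀ =
          P.kap * P.kap ^ q * (P.kap ^ n * m * (P.kap ^ n * m) ^ q * b₀) by
          simp only [mul_pow, pow_succ]; ring]
      exact this
  have hMr : ∀ m, m ≠ 0 → M m → M (1 / (m ^ q * b₀ ^ q)) := by
    intro m hm hMm
    have hmq : m ^ q ≠ 0 := pow_ne_zero _ hm
    have := hrot _ _ (Ok.scale hF h₀ m) (mul_ne_zero (mul_ne_zero hm hmq) hb) hMm
    show R _ _
    simp only [mul_pow, div_pow, one_pow, pow_q_q hF] at this ⊢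
    rw [show m * a₀ / (m ^ q * m * b₀ ^ q) = 1 / (m ^ q * b₀ ^ q) * a₀ by field_simp,
      show 1 / (m ^ q * m * b₀ ^ q)
        = 1 / (m ^ q * b₀ ^ q) * (1 / (m * b₀)) * b₀ by field_simp] at this
    exact this
  have hw1 : M (1 / b₀ ^ q) := by simpa using hMr 1 one_ne_zero hM1
  have hw2 : M (b₀ / b₀ ^ q) := by
    have h := hMr _ (one_div_ne_zero hbq) hw1
    rwa [div_pow, one_pow, pow_q_q hF, show (1 : F) / (1 / b₀ * b₀ ^ q) = b₀ / b₀ ^ q by
      field_simp] at h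
  have hall : ∀ m, m ≠ 0 → M m := by
    intro m hm
    obtain ⟨k, -, rfl⟩ := P.surj m hm
    rcases (show q % 3 = 0 ∨ q % 3 = 1 ∨ q % 3 = 2 by omega) with h | h | h
    · obtain ⟨s, hs⟩ : 3 ∣ q := by omega
      have hz2 : InC P (P.ζ ^ 2) := by
        have : P.ζ ^ 2 = P.kap * P.ζ ^ q := by rw [Prim.kap, div_mul_cancel₀ _ P.zq_ne]
        rw [this]
        exact InC.mul ⟨1, pow_one _⟩ (InC.cube_pow hF P ⟨s, hs⟩)
      have hz : InC P P.ζ := by
        have : P.ζ = P.ζ ^ 3 * (P.ζ ^ 2)⁻¹ := by have := P.ne0; field_simp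
        rw [this]
        exact (InC.cube_pow hF P dvd_rfl).mul (hz2.inv hF)
      simpa using hMκ 1 hM1 _ (hz.pow k)
    · obtain ⟨s, hs⟩ : ∃ s, q = 3 * s + 1 := ⟨q / 3, by omega⟩
      have hz : InC P P.ζ := by
        have : P.ζ = P.kap * P.ζ ^ (3 * s) := by
          have e : P.ζ ^ q = P.ζ ^ (3 * s) * P.ζ := by
            rw [← pow_succ]; exact congrArg _ hs
          have := P.ne0
          rw [Prim.kap, e]
          field_simp
        rw [this]
        exact InC.mul ⟨1, pow_one _⟩ (InC.cube_pow hF P (dvd_mul_right 3 s))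
      simpa using hMκ 1 hM1 _ (hz.pow k)
    · have h3ε : ε % 3 = 1 ∨ ε % 3 = 2 := by omega
      rcases (show 3 ∣ k ∨ 3 ∣ k + q * ε ∨ 3 ∣ k + q * ε + 2 * ε by
        have e : q * ε % 3 = 2 * ε % 3 := by rw [Nat.mul_mod, h]; simp [Nat.mul_mod]
        omega) with hk | hk | hk
      · simpa using hMκ 1 hM1 _ (InC.cube_pow hF P hk)
      · have := hMκ _ hw1 _ (InC.cube_pow hF P hk)
        rwa [hb₀, ← pow_mul, mul_comm ε q, pow_add, mul_one_div,
          mul_div_cancel_right₀ _ (pow_ne_zero _ P.ne0)] at this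
      · have := hMκ _ hw2 _
          ((InC.cube_pow hF P hk).mul ((InC.cube_pow hF P (dvd_mul_right 3 ε)).inv hF))
        have e : P.ζ ^ (k + q * ε + 2 * ε) * (P.ζ ^ (3 * ε))⁻¹ * (b₀ / b₀ ^ q) = P.ζ ^ k := by
          have := pow_ne_zero (n := q * ε) P.ne0
          have := pow_ne_zero (n := ε) P.ne0
          rw [hb₀, ← pow_mul, mul_comm ε q, pow_add, pow_add, mul_comm 2 ε, mul_comm 3 ε,
            pow_mul P.ζ ε 2, pow_mul P.ζ ε 3]
          field_simp
        rwa [e] at this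
  have hm0 : a / a₀ ≠ 0 := by
    refine div_ne_zero (fun h => hT ?_) ha0
    subst h
    have h1 : r * b₀ + (r * b₀) ^ q + 0 * 0 ^ q = 0 := ha
    rw [mul_pow, hr, zero_mul, add_zero, ← mul_add] at h1
    exact (mul_eq_zero.1 h1).resolve_left hr0
  have hres := hall _ hm0
  have e : a / a₀ * (a / a₀) ^ q = r := by
    have h1 : r * b₀ + (r * b₀) ^ q + a * a ^ q = 0 := ha
    have h4 : b₀ + b₀ ^ q + a₀ * a₀ ^ q = 0 := h₀
    rw [mul_pow, hr] at h1
    have := pow_ne_zero (n := q) ha0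
    rw [div_pow]
    field_simp
    linear_combination h1 - r * h4
  show R _ _
  simpa [M, e, div_mul_cancel₀ _ ha0] using hres

/-- Spreading from two seeds to all nonzero parameters. -/
theorem closure_all (hF : Fintype.card F = q ^ 2) (h2 : q ≠ 2) (h3 : q ≠ 3) (P : Prim F q)
    (hκ : ∀ a b, Ok q a b → R a b → R (P.kap * a) (P.nrm * b))
    (hrot : ∀ a b, Ok q a b → b ≠ 0 → R a b → R (a / b ^ q) (1 / b ^ q))
    (hmul : ∀ a b c d, Ok q a b → Ok q c d → b ≠ 0 → d ≠ 0 → b + d - a * c ^ q ≠ 0 →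
      R a b → R c d → R (-a / b + -c / d ^ q) ((b + d - a * c ^ q) / (b * d)) →
      R (a + c) (b + d - a * c ^ q))
    {a₁ a₂ : F} (hO1 : Ok q a₁ P.ζ) (hR1 : R a₁ P.ζ) (hO2 : Ok q a₂ (P.ζ ^ 2))
    (hR2 : R a₂ (P.ζ ^ 2)) {a b : F} (hab : Ok q a b) (hb : b ≠ 0) : R a b := by
  have hq := two_le_q hF
  have hzq : P.ζ ^ q ≠ P.ζ := by
    intro h
    have h1 : P.ζ ^ (q - 1) = 1 := by
      refine mul_right_cancel₀ P.ne0 ?_
      rw [one_mul, ← pow_succ, Nat.sub_add_cancel (by omega)]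
      exact h
    have h4 := Nat.le_of_dvd (by omega) ((P.pow_one _).1 h1)
    have h9 : 2 * q ≤ q ^ 2 := by rw [pow_two]; exact Nat.mul_le_mul_right q (by omega)
    omega
  have htr : ∀ ε : ℕ, 1 ≤ ε → ε ≤ 2 → P.ζ ^ ε + (P.ζ ^ ε) ^ q ≠ 0 := by
    intro ε hε1 hε h
    have e : (P.ζ ^ ε) ^ q = -P.ζ ^ ε := eq_neg_of_add_eq_zero_right h
    have h1 : P.ζ ^ (2 * ε * (q - 1)) = 1 := by
      refine mul_right_cancel₀ (pow_ne_zero (2 * ε) P.ne0) ?_
      rw [one_mul, ← pow_add, show 2 * ε * (q - 1) + 2 * ε = ε * q * 2 by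
        obtain ⟨t, rfl⟩ : ∃ t, q = t + 1 := ⟨q - 1, by omega⟩
        rw [Nat.add_sub_cancel]; ring, pow_mul, pow_mul, e, neg_sq, ← pow_mul, mul_comm ε 2]
    have h4 := (P.pow_one _).1 h1
    rw [show q ^ 2 - 1 = q ^ 2 - 1 ^ 2 by simp, Nat.sq_sub_sq] at h4
    have h6 := Nat.le_of_dvd (by omega)
      (Nat.dvd_of_mul_dvd_mul_right (show 0 < q - 1 by omega) h4)
    omega
  have hz1 : P.ζ ^ 1 = P.ζ := pow_one _
  have Q1 : ∀ a r : F, r ^ q = r → r ≠ 0 → Ok q a (r * P.ζ) → R a (r * P.ζ) := by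
    intro a r hr hr0 ha
    have := seed_class R hF P hκ hrot (ε := 1) (by decide) (htr 1 le_rfl (by norm_num))
      (a₀ := a₁) (by rw [hz1]; exact hO1) (by rw [hz1]; exact hR1) hr hr0
      (a := a) (by rw [hz1]; exact ha)
    rwa [hz1] at this
  suffices H : ∀ k : ℕ, 1 ≤ k → ∀ a r : F, r ^ q = r → r ≠ 0 →
      Ok q a (r * P.ζ ^ k) → R a (r * P.ζ ^ k) by
    obtain ⟨k, hk, rfl⟩ := P.surj b hb
    have := H k hk a 1 (one_pow _) one_ne_zero (by rw [one_mul]; exact hab)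
    rwa [one_mul] at this
  intro k
  induction k using Nat.strong_induction_on with
  | _ k ih =>
    intro hk e r hr hr0 he
    rcases (show k = 1 ∨ k = 2 ∨ 3 ≤ k by omega) with rfl | rfl | h
    · rw [pow_one] at he ⊢
      exact Q1 e r hr hr0 he
    · exact seed_class R hF P hκ hrot (by decide) (htr 2 (by norm_num) le_rfl) hO2 hR2 hr hr0 he
    obtain ⟨j, rfl⟩ : ∃ j, k = j + 2 := ⟨k - 2, by omega⟩
    set χ := P.ζ ^ (j + 2) with hχ
    have hχ0 : χ ≠ 0 := pow_ne_zero _ P.ne0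
    by_cases hD : χ * P.ζ ^ q - χ ^ q * P.ζ = 0
    · have hr' : (χ / P.ζ) ^ q = χ / P.ζ := by
        rw [div_pow, div_eq_div_iff P.zq_ne P.ne0]
        linear_combination -hD
      have heq : r * χ = r * (χ / P.ζ) * P.ζ := by
        rw [mul_assoc, div_mul_cancel₀ _ P.ne0]
      rw [heq] at he ⊢
      exact Q1 e _ (by rw [mul_pow, hr, hr']) (mul_ne_zero hr0 (div_ne_zero hχ0 P.ne0)) he
    obtain ⟨a₀, c₀, μ, l, hμ0, hμq, hl0, hlq, hOa, hOc, hprod⟩ :=
      circle hF (by simpa using htr 1 le_rfl (by norm_num)) hzq hD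
    set s := r / l with hs
    have hs0 : s ≠ 0 := div_ne_zero hr0 hl0
    have hsq : s ^ q = s := by rw [hs, div_pow, hr, hlq]
    have hO := Ok.mul hF hOa hOc
    rw [hprod] at hO
    obtain ⟨m, hm, hme⟩ : ∃ m : F, m * m ^ q = s ∧ m * (a₀ + c₀) = e := by
      have h1 : l * χ + (l * χ) ^ q + (a₀ + c₀) * (a₀ + c₀) ^ q = 0 := hO
      have h4 : r * χ + (r * χ) ^ q + e * e ^ q = 0 := he
      rw [mul_pow, hlq] at h1
      rw [mul_pow, hr] at h4
      have hne : e * e ^ q = s * ((a₀ + c₀) * (a₀ + c₀) ^ q) := by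
        rw [hs]; field_simp; linear_combination l * h4 - r * h1
      rcases eq_or_ne (a₀ + c₀) 0 with h0 | h0
      · obtain ⟨m, hm⟩ := exists_norm_eq hF hsq
        refine ⟨m, hm, ?_⟩
        rw [h0, zero_mul, mul_zero, mul_eq_zero] at hne
        rw [h0, mul_zero, hne.elim id (pow_q_eq_zero_iff hF).1]
      · have := pow_ne_zero (n := q) h0
        refine ⟨e / (a₀ + c₀), ?_, div_mul_cancel₀ _ h0⟩
        rw [div_pow, div_mul_div_comm, hne, mul_div_assoc, div_self (mul_ne_zero h0 this), mul_one]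
    have hA := Ok.scale hF hOa m
    have hC := Ok.scale hF hOc m
    rw [hm] at hA hC
    rw [← mul_assoc] at hC
    have hsμ : (s * μ) ^ q = s * μ := by rw [mul_pow, hsq, hμq]
    have hb1 : s * P.ζ ≠ 0 := mul_ne_zero hs0 P.ne0
    have hd1 : s * μ * P.ζ ≠ 0 := mul_ne_zero (mul_ne_zero hs0 hμ0) P.ne0
    have hsum : s * P.ζ + s * μ * P.ζ - m * a₀ * (m * c₀) ^ q = r * χ := by
      have h1 : s * l = r := div_mul_cancel₀ _ hl0
      rw [mul_pow]
      linear_combination s * hprod + χ * h1 - a₀ * c₀ ^ q * hm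
    have hne : s * P.ζ + s * μ * P.ζ - m * a₀ * (m * c₀) ^ q ≠ 0 := by
      rw [hsum]; exact mul_ne_zero hr0 hχ0
    have hOw := Ok.mul hF (Ok.right' hF hA hb1) (Ok.left' hF hC hd1)
    have hR := hmul _ _ _ _ hA hC hb1 hd1 hne (Q1 _ _ hsq hs0 hA)
      (Q1 _ _ hsμ (mul_ne_zero hs0 hμ0) hC)
    rw [hsum, ← mul_add, hme] at hR
    refine hR ?_
    have hbw : (1 / (s * P.ζ) + 1 / (s * μ * P.ζ)
        - -(m * a₀) / (s * P.ζ) * (-(m * c₀) / (s * μ * P.ζ) ^ q) ^ q)
        = r / (s * (s * μ)) * P.ζ ^ j := by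
      rw [div_pow, neg_pow_q hF, pow_q_q hF]
      have := P.ne0
      have e2 : χ = P.ζ ^ j * P.ζ * P.ζ := by rw [hχ]; ring
      field_simp
      linear_combination hsum + r * e2
    rw [hbw] at hOw
    rcases Nat.eq_zero_or_pos j with hj | hj
    · omega
    have hw := ih j (by omega) hj _ (r / (s * (s * μ)))
      (by rw [div_pow, mul_pow, hr, hsq, hsμ])
      (div_ne_zero hr0 (mul_ne_zero hs0 (mul_ne_zero hs0 hμ0))) hOw
    convert hw using 1
    rw [hχ, pow_add]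
    have := P.ne0
    field_simp

end Params

end Cfsg.Agent.H68.ShortSU
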