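import Cfsg.Agent.H68.ShortSU.Kernel
import Cfsg.Agent.H99.HasPres

/-!
A presentation of `SU₃(p)` for a prime `p`: the Bruhat normal form with one Weyl relation for
each orbit representative of the torus.
-/

set_option autoImplicit false
set_option linter.unusedSectionVars false

namespace Cfsg.Agent.H68.ShortSU

open Cfsg Matrix Cfsg.Agent.Unitary Cfsg.Agent.H52.SUThree Cfsg.Agent.H99.ShortPres
open Cfsg.Agent.H99.BoundedPres

variable {F : Type*} [Field F] [Fintype F] {q : ℕ} {u w f : Fin 3 → F}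

/-- The relations, for a prime `q`. -/
structure SRels {G : Type*} [Group G] (P : Prim F q) (u w f : Fin 3 → F) (θ : G →* SU 3 F q)
    (X Y Z H T : G) : Prop where
  tt : T * T = 1
  tht : T * H * T = (H ^ q)⁻¹
  xz : Commute X Z
  yz : Commute Y Z
  zq : Z ^ q = 1
  yx : ∃ c : ℕ, Y * X = X * Y * Z ^ c
  xq : ∃ c : ℕ, X ^ q = Z ^ c
  yq : ∃ c : ℕ, Y ^ q = Z ^ c
  conj : ∀ g ∈ ({X, Y, Z} : Set G), H * g * H⁻¹ ∈ Subgroup.closure ({X, Y, Z} : Set G)
  seed : ∀ k ≤ q, ∀ a, Ok q a (P.ζ ^ k) → ∃ g ∈ Subgroup.closure ({X, Y, Z} : Set G),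
    fmat q u w f (θ g) = Umat q a (P.ζ ^ k) ∧ ∃ g1 ∈ Subgroup.closure ({X, Y, Z} : Set G),
      ∃ g2 ∈ Subgroup.closure ({X, Y, Z} : Set G), ∃ l : ℕ, T * g * T = g1 * T * H ^ l * g2
  gen : Subgroup.closure ({X, Y, Z, H, T} : Set G) = ⊤

/-- The group of normal words has at most `q³` elements. -/
theorem exists_normal {G : Type*} [Group G] {X Y Z : G} (hq : 0 < q) (xz : Commute X Z)
    (yz : Commute Y Z) (zq : Z ^ q = 1) {cy cx cyy : ℕ} (yx : Y * X = X * Y * Z ^ cy)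
    (xq : X ^ q = Z ^ cx) (yq : Y ^ q = Z ^ cyy) {g : G}
    (hg : g ∈ Subgroup.closure ({X, Y, Z} : Set G)) :
    ∃ i j k : Fin q, g = X ^ i.val * Y ^ j.val * Z ^ k.val := by
  let NF : G → Prop := fun g => ∃ i j k : Fin q, g = X ^ i.val * Y ^ j.val * Z ^ k.val
  have hyx : ∀ i : ℕ, Y * X ^ i = X ^ i * Y * Z ^ (cy * i) := by
    intro i
    induction i with
    | zero => simp
    | succ i ih =>
      calc Y * X ^ (i + 1) = Y * X ^ i * X := by rw [pow_succ, mul_assoc]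
        _ = X ^ i * (Y * (Z ^ (cy * i) * X)) := by rw [ih]; simp only [mul_assoc]
        _ = X ^ i * (Y * X) * Z ^ (cy * i) := by
          rw [← (xz.pow_right (cy * i)).eq]; simp only [mul_assoc]
        _ = X ^ i * X * Y * (Z ^ cy * Z ^ (cy * i)) := by rw [yx]; simp only [mul_assoc]
        _ = _ := by rw [← pow_succ, ← pow_add]; ring_nf
  have hnorm : ∀ i j k : ℕ, NF (X ^ i * Y ^ j * Z ^ k) := by
    intro i j k
    have ei : X ^ i = X ^ (i % q) * Z ^ (cx * (i / q)) := by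
      rw [pow_mul, ← xq, ← pow_mul, ← pow_add, Nat.mod_add_div]
    have ej : Y ^ j = Y ^ (j % q) * Z ^ (cyy * (j / q)) := by
      rw [pow_mul, ← yq, ← pow_mul, ← pow_add, Nat.mod_add_div]
    have ek : ∀ k : ℕ, Z ^ k = Z ^ (k % q) := fun k => by
      conv_lhs => rw [← Nat.mod_add_div k q, pow_add, pow_mul, zq, one_pow, mul_one]
    refine ⟨⟨i % q, Nat.mod_lt _ hq⟩, ⟨j % q, Nat.mod_lt _ hq⟩,
      ⟨(cx * (i / q) + cyy * (j / q) + k) % q, Nat.mod_lt _ hq⟩, ?_⟩
    rw [ei, ej, ← ek, pow_add, pow_add]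
    have := (yz.pow_pow (j % q) (cx * (i / q))).eq
    calc X ^ (i % q) * Z ^ (cx * (i / q)) * (Y ^ (j % q) * Z ^ (cyy * (j / q))) * Z ^ k
        = X ^ (i % q) * (Z ^ (cx * (i / q)) * Y ^ (j % q)) * (Z ^ (cyy * (j / q)) * Z ^ k) := by
          simp only [mul_assoc]
      _ = _ := by rw [← this]; simp only [mul_assoc]
  have step : ∀ a ∈ ({X, Y, Z} : Set G), ∀ g, NF g → NF (a * g) := by
    rintro a ha g ⟨i, j, k, rfl⟩
    rcases ha with rfl | rfl | rfl
    · rw [← mul_assoc, ← mul_assoc, ← pow_succ']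
      exact hnorm _ _ _
    · have e : a * (X ^ i.val * a ^ j.val * Z ^ k.val) =
          X ^ i.val * a ^ (j.val + 1) * Z ^ (cy * i.val + k.val) := by
        calc a * (X ^ i.val * a ^ j.val * Z ^ k.val)
            = a * X ^ i.val * (a ^ j.val * Z ^ k.val) := by simp only [mul_assoc]
          _ = X ^ i.val * a * (Z ^ (cy * i.val) * a ^ j.val) * Z ^ k.val := by
              rw [hyx]; simp only [mul_assoc]
          _ = _ := by rw [← (yz.pow_pow j.val (cy * i.val)).eq, pow_succ', pow_add]; simp only [mul_assoc]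
      rw [e]
      exact hnorm _ _ _
    · have e : a * (X ^ i.val * Y ^ j.val * a ^ k.val) = X ^ i.val * Y ^ j.val * a ^ (k.val + 1) := by
        have h1 : Commute a (X ^ i.val * Y ^ j.val) :=
          (xz.symm.pow_right _).mul_right (yz.symm.pow_right _)
        rw [← mul_assoc, h1.eq, mul_assoc, pow_succ']
      rw [e]
      exact hnorm _ _ _
  have hfinord : ∀ a ∈ ({X, Y, Z} : Set G), a ^ (q * q) = 1 := by
    rintro a (rfl | rfl | rfl) <;> rw [pow_mul]
    · rw [xq, ← pow_mul, mul_comm, pow_mul, zq, one_pow]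
    · rw [yq, ← pow_mul, mul_comm, pow_mul, zq, one_pow]
    · rw [zq, one_pow]
  induction hg using Subgroup.closure_induction_left with
  | one => exact ⟨⟨0, hq⟩, ⟨0, hq⟩, ⟨0, hq⟩, by simp⟩
  | mul_left a ha b _ ih => exact step a ha b ih
  | inv_mul_cancel a ha b _ ih =>
    have e : a⁻¹ = a ^ (q * q - 1) := by
      refine inv_eq_of_mul_eq_one_right ?_
      rw [← pow_succ', Nat.sub_add_cancel (Nat.mul_pos hq hq), hfinord a ha]
    rw [e]
    have : ∀ m : ℕ, NF (a ^ m * b) := by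
      intro m
      induction m with
      | zero => simpa using ih
      | succ m ihm => rw [pow_succ', mul_assoc]; exact step a ha _ ihm
    exact this _

variable (hF : Fintype.card F = q ^ 2) (hfr : Frame q u w f) {P : Prim F q}
  {x h t : SU 3 F q} {β : F} (Γ : Gens (u := u) (w := w) (f := f) P x h t β)
  {G : Type*} [Group G] {θ : G →* SU 3 F q} {X Y Z H T : G}

include hF hfr Γ

theorem injective_of_srels {y z : SU 3 F q}
    (hU : ∀ g ∈ Usub hF hfr, ∃ i j k : ℕ, g = x ^ i * y ^ j * z ^ k)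
    (hxU : x ∈ Usub hF hfr) (hyU : y ∈ Usub hF hfr) (hzU : z ∈ Usub hF hfr)
    (hX : θ X = x) (hY : θ Y = y) (hZ : θ Z = z) (hH : θ H = h) (hT : θ T = t)
    (R : SRels P u w f θ X Y Z H T) : Function.Injective θ := by
  classical
  have hq := two_le_q hF
  have hH1 : H ^ (q ^ 2 - 1) = 1 := torus_period hq R.tt R.tht
  set W := Subgroup.closure ({X, Y, Z} : Set G) with hW
  have hXW : X ∈ W := Subgroup.subset_closure (by simp)
  have hYW : Y ∈ W := Subgroup.subset_closure (by simp)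
  have hZW : Z ∈ W := Subgroup.subset_closure (by simp)
  obtain ⟨cy, hcy⟩ := R.yx
  obtain ⟨cx, hcx⟩ := R.xq
  obtain ⟨cyy, hcyy⟩ := R.yq
  have hWU : ∀ g ∈ W, θ g ∈ Usub hF hfr := by
    intro g hg
    induction hg using Subgroup.closure_induction with
    | mem g hg => rcases hg with rfl | rfl | rfl <;> simp_all
    | one => rw [map_one]; exact one_mem _
    | mul a b _ _ ha hb => rw [map_mul]; exact mul_mem ha hb
    | inv a _ ha => rw [map_inv]; exact inv_mem ha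
  let nf : Fin q × Fin q × Fin q → W := fun v =>
    ⟨X ^ v.1.val * Y ^ v.2.1.val * Z ^ v.2.2.val,
      mul_mem (mul_mem (pow_mem hXW _) (pow_mem hYW _)) (pow_mem hZW _)⟩
  have hnf : Function.Surjective nf := fun g => by
    obtain ⟨i, j, k, e⟩ := exists_normal (by omega) R.xz R.yz R.zq hcy hcx hcyy g.2
    exact ⟨(i, j, k), Subtype.ext e.symm⟩
  haveI : Finite W := Finite.of_surjective nf hnf
  let ρ : W → Usub hF hfr := fun g => ⟨θ g, hWU g g.2⟩
  have hρs : Function.Surjective ρ := by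
    rintro ⟨g, hg⟩
    obtain ⟨i, j, k, rfl⟩ := hU g hg
    exact ⟨⟨X ^ i * Y ^ j * Z ^ k, mul_mem (mul_mem (pow_mem hXW _) (pow_mem hYW _)) (pow_mem hZW _)⟩,
      Subtype.ext (by simp [ρ, hX, hY, hZ])⟩
  have hρ : Function.Injective ρ := by
    refine (hρs.bijective_of_nat_card_le ?_).1
    refine le_trans ?_ (card_Usub hF hfr)
    refine (Nat.card_le_card_of_surjective nf hnf).trans ?_
    simp [Nat.card_eq_fintype_card, hF]
    exact le_of_eq (by ring)
  have hinjW : ∀ a ∈ W, ∀ b ∈ W, θ a = θ b → a = b := fun a ha b hb e =>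
    congrArg Subtype.val (@hρ ⟨a, ha⟩ ⟨b, hb⟩ (Subtype.ext e))
  have hcoord : ∀ g ∈ W, ∃ a b, Ok q a b ∧ fmat q u w f (θ g) = Umat q a b := fun g hg =>
    hWU g hg
  have hpinv : ∀ n : ℕ, ∃ m : ℕ, (H ^ n)⁻¹ = H ^ m := fun n => by
    refine ⟨(q ^ 2 - 1 - 1) * n, inv_eq_of_mul_eq_one_right ?_⟩
    have h4 : 4 ≤ q ^ 2 := Nat.pow_le_pow_left hq 2
    rw [← pow_add, show n + (q ^ 2 - 1 - 1) * n = (q ^ 2 - 1) * n by
      conv_lhs => rw [add_comm, ← Nat.succ_mul]
      congr 1; omega, pow_mul, hH1, one_pow]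
  have hconj1 : ∀ g ∈ W, H * g * H⁻¹ ∈ W := by
    intro g hg
    induction hg using Subgroup.closure_induction with
    | mem g hg => exact R.conj g hg
    | one => simp
    | mul a b _ _ ha hb =>
      rw [show H * (a * b) * H⁻¹ = (H * a * H⁻¹) * (H * b * H⁻¹) by group]
      exact mul_mem ha hb
    | inv a _ ha =>
      rw [show H * a⁻¹ * H⁻¹ = (H * a * H⁻¹)⁻¹ by group]
      exact inv_mem ha
  have hconj : ∀ g ∈ W, ∀ n : ℕ, H ^ n * g * (H ^ n)⁻¹ ∈ W := by
    intro g hg n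
    induction n with
    | zero => simpa using hg
    | succ n ih =>
      have := hconj1 _ ih
      rwa [show H * (H ^ n * g * (H ^ n)⁻¹) * H⁻¹ = H ^ (n + 1) * g * (H ^ (n + 1))⁻¹ by
        rw [pow_succ']; group] at this
  have hconj' : ∀ g ∈ W, ∀ n : ℕ, (H ^ n)⁻¹ * g * H ^ n ∈ W := by
    intro g hg n
    obtain ⟨m, hm⟩ := hpinv n
    rw [show H ^ n = (H ^ m)⁻¹ by rw [← hm, inv_inv], inv_inv]
    exact hconj g hg m
  have hTi : T⁻¹ = T := inv_eq_of_mul_eq_one_right R.tt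
  have hTH : ∀ l : ℕ, ∃ m : ℕ, H ^ l * T = T * H ^ m ∧ T * H ^ l = H ^ m * T := by
    intro l
    obtain ⟨m, hm⟩ := hpinv (q * l)
    have e : T * H ^ l * T = H ^ m := by
      rw [← hm]
      nth_rw 2 [← hTi]
      rw [← conj_pow, hTi, R.tht, _root_.inv_pow, pow_mul]
    refine ⟨m, ?_, ?_⟩
    · rw [← e, ← mul_assoc, ← mul_assoc, R.tt, one_mul]
    · rw [← e, mul_assoc (T * H ^ l), R.tt, mul_one]
  have hTH1 : T * H = (H ^ q)⁻¹ * T := by rw [← R.tht, mul_assoc (T * H), R.tt, mul_one]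
  let Good : F → F → Prop := fun a b => ∃ g ∈ W, fmat q u w f (θ g) = Umat q a b ∧
    ∃ g1 ∈ W, ∃ g2 ∈ W, ∃ l : ℕ, T * g * T = g1 * T * H ^ l * g2
  have hκ : ∀ a b, Good a b → Good (P.kap * a) (P.nrm * b) := by
    rintro a b ⟨g, hg, hgm, g1, hg1, g2, hg2, l, e⟩
    refine ⟨H ^ 1 * g * (H ^ 1)⁻¹, hconj g hg 1, ?_,
      (H ^ q)⁻¹ * g1 * H ^ q, hconj' g1 hg1 q, (H ^ q)⁻¹ * g2 * H ^ q, hconj' g2 hg2 q,
      1 + l + q, ?_⟩
    · rw [map_mul, map_mul, map_inv, map_pow, hH, fmat_conj hF hfr Γ hgm, pow_one, pow_one]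
    · have h2' : H⁻¹ * T = T * H ^ q := by
        rw [← inv_inv (H ^ q), ← R.tht, _root_.mul_inv_rev, _root_.mul_inv_rev, hTi, ← mul_assoc T T,
          R.tt, one_mul]
      calc T * (H ^ 1 * g * (H ^ 1)⁻¹) * T = T * H * g * (H⁻¹ * T) := by
            simp only [pow_one, mul_assoc]
        _ = (H ^ q)⁻¹ * (T * g * T) * H ^ q := by rw [hTH1, h2']; simp only [mul_assoc]
        _ = (H ^ q)⁻¹ * (g1 * (T * (H ^ l * g2))) * H ^ q := by rw [e]; simp only [mul_assoc]
        _ = (H ^ q)⁻¹ * g1 * H ^ q * (((H ^ q)⁻¹ * T) * (H ^ l * g2)) * H ^ q := by group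
        _ = _ := by rw [← hTH1, pow_add, pow_add, pow_one]; group
  have hκn : ∀ n a b, Good a b → Good (P.kap ^ n * a) (P.nrm ^ n * b) := by
    intro n
    induction n with
    | zero => intro a b h; simpa using h
    | succ n ih => intro a b h; rw [pow_succ', pow_succ', mul_assoc, mul_assoc]; exact hκ _ _ (ih a b h)
  have hall : ∀ a b, Ok q a b → b ≠ 0 → Good a b := by
    intro a b hab hb
    obtain ⟨m, -, hm⟩ := P.surj b hb
    set n := m / (q + 1)
    set k := m % (q + 1)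
    have hbe : b = P.nrm ^ n * P.ζ ^ k := by
      rw [← hm, Prim.nrm, ← pow_succ', ← pow_mul, ← pow_add, Nat.div_add_mod]
    have hn0 : P.nrm ^ n ≠ 0 := pow_ne_zero _ (mul_ne_zero P.ne0 P.zq_ne)
    have hok : Ok q (a / P.kap ^ n) (P.ζ ^ k) := by
      have h' : b + b ^ q + a * a ^ q = 0 := hab
      show P.ζ ^ k + (P.ζ ^ k) ^ q + a / P.kap ^ n * (a / P.kap ^ n) ^ q = 0
      have hk : P.kap ^ n * (P.kap ^ n) ^ q = P.nrm ^ n := by
        rw [pow_right_comm, ← mul_pow, P.kap_norm hF]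
      rw [hbe, mul_pow, pow_right_comm P.nrm n q, P.nrm_fixed hF] at h'
      rw [div_pow, div_mul_div_comm, hk]
      field_simp
      linear_combination h'
    obtain ⟨g, hg, hgm, rest⟩ := R.seed k (Nat.lt_succ_iff.1 (Nat.mod_lt _ (Nat.succ_pos q))) _ hok
    have := hκn n _ _ ⟨g, hg, hgm, rest⟩
    rwa [← hbe, mul_div_cancel₀ _ (pow_ne_zero _ P.kap_ne)] at this
  have hstep : ∀ g ∈ W, g ≠ 1 → ∃ g1 ∈ W, ∃ g2 ∈ W, ∃ l : ℕ,
      T * g * T = g1 * T * H ^ l * g2 := by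
    intro g hg hne
    obtain ⟨a, b, hab, e⟩ := hcoord g hg
    have hb : b ≠ 0 := by
      rintro rfl
      obtain rfl := eq_zero_of_b hF hab
      refine hne (hinjW g hg 1 (one_mem _) (fmat_inj hF hfr ?_))
      rw [e, map_one, fmat_one hF hfr, Umat_zero hF]
    obtain ⟨g', hg', e', he⟩ := hall a b hab hb
    rwa [hinjW g hg g' hg' (fmat_inj hF hfr (e.trans e'.symm))]
  let Cell : G → Prop := fun z => (∃ a ∈ W, ∃ n : ℕ, z = a * H ^ n) ∨
    ∃ a ∈ W, ∃ n : ℕ, ∃ b ∈ W, z = a * T * H ^ n * b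
  have hWmul : ∀ a ∈ W, ∀ z, Cell z → Cell (a * z) := by
    rintro a ha z (⟨c, hc, n, rfl⟩ | ⟨c, hc, n, b, hb, rfl⟩)
    · exact Or.inl ⟨a * c, mul_mem ha hc, n, by simp only [mul_assoc]⟩
    · exact Or.inr ⟨a * c, mul_mem ha hc, n, b, hb, by simp only [mul_assoc]⟩
  have hHmul : ∀ l : ℕ, ∀ z, Cell z → Cell (H ^ l * z) := by
    rintro l z (⟨c, hc, n, rfl⟩ | ⟨c, hc, n, b, hb, rfl⟩)
    · refine Or.inl ⟨_, hconj c hc l, l + n, ?_⟩
      rw [pow_add]; group
    · obtain ⟨m, hm, -⟩ := hTH l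
      refine Or.inr ⟨_, hconj c hc l, m + n, b, hb, ?_⟩
      calc H ^ l * (c * T * H ^ n * b) = H ^ l * c * (H ^ l)⁻¹ * (H ^ l * T) * H ^ n * b := by group
        _ = _ := by rw [hm, pow_add]; simp only [mul_assoc]
  have hTmul : ∀ z, Cell z → Cell (T * z) := by
    rintro z (⟨c, hc, n, rfl⟩ | ⟨c, hc, n, b, hb, rfl⟩)
    · refine Or.inr ⟨1, one_mem _, n, _, hconj' c hc n, ?_⟩
      group
    · rcases eq_or_ne c 1 with rfl | hc1
      · refine Or.inl ⟨_, hconj b hb n, n, ?_⟩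
        calc T * (1 * T * H ^ n * b) = (T * T) * (H ^ n * b) := by simp only [one_mul, mul_assoc]
          _ = _ := by rw [R.tt, one_mul]; group
      · obtain ⟨g1, hg1, g2, hg2, l, e⟩ := hstep c hc hc1
        refine Or.inr ⟨g1, hg1, l + n, _, mul_mem (hconj' g2 hg2 n) hb, ?_⟩
        calc T * (c * T * H ^ n * b) = (T * c * T) * H ^ n * b := by simp only [mul_assoc]
          _ = _ := by rw [e, pow_add]; group
  have hcell : ∀ z, Cell z := by
    intro z
    have hz : z ∈ Subgroup.closure ({X, Y, Z, H, T} : Set G) := by rw [R.gen]; trivial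
    induction hz using Subgroup.closure_induction_left with
    | one => exact Or.inl ⟨1, one_mem _, 0, by simp⟩
    | mul_left a ha b _ ih =>
      rcases ha with rfl | rfl | rfl | rfl | rfl
      · exact hWmul _ hXW _ ih
      · exact hWmul _ hYW _ ih
      · exact hWmul _ hZW _ ih
      · simpa using hHmul 1 _ ih
      · exact hTmul _ ih
    | inv_mul_cancel a ha b _ ih =>
      rcases ha with rfl | rfl | rfl | rfl | rfl
      · exact hWmul _ (inv_mem hXW) _ ih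
      · exact hWmul _ (inv_mem hYW) _ ih
      · exact hWmul _ (inv_mem hZW) _ ih
      · obtain ⟨m, hm⟩ := hpinv 1
        rw [pow_one] at hm
        rw [hm]
        exact hHmul m _ ih
      · rw [hTi]; exact hTmul _ ih
  refine (injective_iff_map_eq_one θ).2 fun z' hz => ?_
  have hz' : fmat q u w f (θ z') = 1 := by rw [hz, fmat_one hF hfr]
  rcases hcell z' with ⟨c, hc, n, rfl⟩ | ⟨c, hc, n, b, hb, rfl⟩
  · obtain ⟨a, a', -, e⟩ := hcoord c hc
    rw [map_mul, fmat_mul hF hfr, e, map_pow, hH, fmat_pow hF hfr Γ] at hz'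
    have h00 : P.ζ ^ n = 1 := by
      simpa [Umat, Dmat, Matrix.mul_apply, Fin.sum_univ_three] using congrFun (congrFun hz' 0) 0
    obtain ⟨k, hk⟩ := (P.pow_one _).1 h00
    have hHn : H ^ n = 1 := by rw [hk, pow_mul, hH1, one_pow]
    rw [hHn, mul_one] at hz ⊢
    exact hinjW c hc 1 (one_mem _) (by rw [hz, map_one])
  · obtain ⟨a, a', -, e⟩ := hcoord c hc
    obtain ⟨a2, a2', -, e2⟩ := hcoord b hb
    rw [map_mul, map_mul, map_mul, map_pow, hH, hT, fmat_mul hF hfr, fmat_mul hF hfr,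
      fmat_mul hF hfr, e, e2, Γ.ht, fmat_pow hF hfr Γ] at hz'
    exact absurd (congrFun (congrFun hz' 2) 0)
      (by simp [Umat, Dmat, Tmat, Matrix.mul_apply, Fin.sum_univ_three, pow_ne_zero n P.ne0])

end Cfsg.Agent.H68.ShortSU
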