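import Cfsg.Agent.H68.ShortSU.Small

/-!
`SU₃(p)` for `p = 3, 5` has a presentation with few relations.
-/

set_option autoImplicit false
set_option linter.unusedSectionVars false

namespace Cfsg.Agent.H68.ShortSU

open Cfsg Matrix Cfsg.Agent.Unitary Cfsg.Agent.H52.SUThree Cfsg.Agent.H99.ShortPres
open Cfsg.Agent.H99.BoundedPres

variable {F : Type*} [Field F] [Fintype F] {q : ℕ} {u w f : Fin 3 → F}

theorem natCast_fixed (hF : Fintype.card F = q ^ 2) (k : ℕ) : (k : F) ^ q = (k : F) := by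
  induction k with
  | zero => simp [q_ne_zero hF]
  | succ k ih => rw [Nat.cast_succ, add_pow_q hF, ih, one_pow]

/-- For a prime `q` the fixed field consists of the natural numbers. -/
theorem fixed_eq_natCast (hF : Fintype.card F = q ^ 2) (hp : q.Prime) :
    (∀ c : F, c ^ q = c → ∃ k < q, c = (k : F)) ∧
      ∀ i j : ℕ, i < q → j < q → (i : F) = (j : F) → i = j := by
  classical
  haveI : Fintype (fixK hF) := Fintype.ofFinite _
  have h0 := natCast_q_eq_zero hF
  haveI hc : CharP F q := (CharP.charP_iff_prime_eq_zero hp).2 h0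
  have hinj : ∀ i j : ℕ, i < q → j < q → (i : F) = (j : F) → i = j := fun i j hi hj e => by
    have := (CharP.natCast_eq_natCast F q).1 e
    rwa [Nat.ModEq, Nat.mod_eq_of_lt hi, Nat.mod_eq_of_lt hj] at this
  let nc : Fin q → fixK hF := fun k => ⟨(k.val : F), natCast_fixed hF k.val⟩
  have hb : Function.Bijective nc := by
    refine (Fintype.bijective_iff_injective_and_card _).2 ⟨fun a b e =>
      Fin.ext (hinj _ _ a.2 b.2 (congrArg Subtype.val e)), ?_⟩
    rw [Fintype.card_fin, ← Nat.card_eq_fintype_card, card_fixK hF]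
  refine ⟨fun c hc => ?_, hinj⟩
  obtain ⟨k, hk⟩ := hb.2 ⟨c, hc⟩
  exact ⟨k.val, k.2, (congrArg Subtype.val hk).symm⟩

variable (hF : Fintype.card F = q ^ 2) (hfr : Frame q u w f) {P : Prim F q}
  {x h t : SU 3 F q} {β : F} (Γ : Gens (u := u) (w := w) (f := f) P x h t β)

include hF in
theorem zeta_q_ne (P : Prim F q) : P.ζ ^ q ≠ P.ζ := by
  intro e
  have hq := two_le_q hF
  have h1 : P.ζ ^ (q - 1) = 1 := by
    refine mul_right_cancel₀ P.ne0 ?_
    rw [one_mul, ← pow_succ, Nat.sub_add_cancel (by omega), e]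
  have h2 := Nat.le_of_dvd (by omega) ((P.pow_one _).1 h1)
  have h3 : q * 2 ≤ q * q := Nat.mul_le_mul_left q hq
  rw [pow_two] at h2
  omega

include hF hfr Γ

theorem gens_top_prime (hp : q.Prime) (h2 : q ≠ 2) :
    Subgroup.closure (Set.range ![x, h, t]) = ⊤ := by
  set H := Subgroup.closure (Set.range ![x, h, t])
  have hok : Ok q (-1 : F) β := by
    have := Γ.hβ
    simp only [Ok, neg_pow_q hF, neg_mul_neg, one_pow, one_mul] at *
    exact this
  have hxe : eSU hF (hok.spec hfr) = x := eq_of_ap hfr fun p r s => by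
    have h1 := ap_vec hF hfr x ![p, r, s]
    simp only [cons_val_zero, cons_val_one, cons_val_two] at h1
    rw [ap_E hF hfr hok]
    refine Eq.trans ?_ h1.symm
    rw [Γ.hx]
    simp [Umat, Matrix.mulVec, dotProduct, Fin.sum_univ_three, neg_pow_q hF]
  have hap : ∀ (g : SU 3 F q) (p r s : F), ap g (vec u w f p r s) =
      vec u w f ((fmat q u w f g *ᵥ ![p, r, s]) 0) ((fmat q u w f g *ᵥ ![p, r, s]) 1)
        ((fmat q u w f g *ᵥ ![p, r, s]) 2) := fun g p r s => ap_vec hF hfr g ![p, r, s]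
  have hq : 3 ≤ q := by have := two_le_q hF; omega
  refine eq_top_of hF hq hfr H hok (neg_ne_zero.2 one_ne_zero) (hxe ▸ Subgroup.subset_closure ⟨0, rfl⟩)
    (h := h) (Subgroup.subset_closure ⟨1, rfl⟩) (μ := P.ζ) (ν := P.ζ ^ q / P.ζ) (κ := 0)
    ?_ ?_ ?_ (g := t) (Subgroup.subset_closure ⟨2, rfl⟩) ?_
  · rw [hap, Γ.hh]
    simp [Dmat, Matrix.mulVec, dotProduct, Fin.sum_univ_three]
  · rw [hap, Γ.hh]
    simp [Dmat, Matrix.mulVec, dotProduct, Fin.sum_univ_three]
  · intro r e hr he hre hk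
    have hk' : P.kap ^ r = P.kap := by
      refine pow_q_injective hF ?_
      show (P.kap ^ r) ^ q = P.kap ^ q
      rw [pow_right_comm, P.kap_pow_q hF]
      have e' : P.ζ ^ q * (P.ζ ^ q / P.ζ) = (P.ζ ^ q) ^ 2 / P.ζ := by ring
      rw [← e']
      exact hk
    have hrq : r = q := by
      have hd : r ∣ q ^ 2 := (dvd_pow_self r (by omega : e ≠ 0)).trans (dvd_of_eq (hre.trans hF))
      obtain ⟨m, hm, rfl⟩ := (Nat.dvd_prime_pow hp).1 hd
      interval_cases m
      · simp at hr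
      · simp
      · exfalso
        have : e = 1 := by
          have h' : q ^ (2 * e) = q ^ 2 := by rw [pow_mul]; exact hre.trans hF
          have := Nat.pow_right_injective (by omega : 2 ≤ q) h'
          omega
        omega
    subst hrq
    have h1 : P.kap ^ (r - 1) = 1 := by
      refine mul_right_cancel₀ P.kap_ne ?_
      rw [one_mul, ← pow_succ, Nat.sub_add_cancel (by omega), hk']
    have hd := P.kap_pow_one hF h1
    rw [show r ^ 2 - 1 = (r - 1) * (r + 1) by
      rw [show r ^ 2 - 1 = r ^ 2 - 1 ^ 2 by simp, Nat.sq_sub_sq, mul_comm],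
      mul_comm 3 (r - 1)] at hd
    have := Nat.le_of_dvd (by norm_num) (Nat.dvd_of_mul_dvd_mul_left (by omega) hd)
    omega
  · rw [hap, Γ.ht, hfr.coord_u]
    simp [Tmat, Matrix.mulVec, dotProduct, Fin.sum_univ_three]

omit Γ in
theorem pow_coord {g : SU 3 F q} {a b : F} (hab : Ok q a b) (hg : fmat q u w f g = Umat q a b)
    (n : ℕ) : ∃ B, Ok q ((n : F) * a) B ∧ fmat q u w f (g ^ n) = Umat q ((n : F) * a) B ∧
      (a = 0 → B = (n : F) * b) := by
  induction n with
  | zero => exact ⟨0, by simpa using Ok.zero hF, by simp [fmat_one hF hfr, Umat_zero hF], by simp⟩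
  | succ n ih =>
    obtain ⟨B, hB, e, h0⟩ := ih
    refine ⟨B + b - (n : F) * a * a ^ q, ?_, ?_, fun ha => ?_⟩
    · rw [Nat.cast_succ, add_mul, one_mul]
      exact Ok.mul hF hB hab
    · rw [pow_succ, fmat_mul hF hfr, e, hg, Umat_mul hF, Nat.cast_succ, add_mul, one_mul]
    · rw [h0 ha, ha, Nat.cast_succ]
      ring

/-- Few relations for a prime `q ≤ 5`. -/
theorem hasPres_su_three_prime (hp : q.Prime) (h2 : q ≠ 2) :
    HasPres (SU 3 F q) 5 (11 + (q + 1) * (q + 1)) := by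
  classical
  obtain ⟨hfix, hinj⟩ := fixed_eq_natCast hF hp
  have hq0 : (q : F) = 0 := natCast_q_eq_zero hF
  obtain ⟨b1, hb1⟩ := exists_ok hF P.ζ
  obtain ⟨y, hy⟩ := exists_U hF hfr hb1
  obtain ⟨z0, hz0, hz0ne⟩ : ∃ z0 : F, z0 + z0 ^ q = 0 ∧ z0 ≠ 0 := by
    by_contra hc
    push Not at hc
    have hsub : Subsingleton {t : F // t + t ^ q = 0} :=
      ⟨fun a b => Subtype.ext ((hc a.1 a.2).trans (hc b.1 b.2).symm)⟩
    have := card_trace_zero hF
    have := two_le_q hF
    have h1 : Nat.card {t : F // t + t ^ q = 0} ≤ 1 := Finite.card_le_one_iff_subsingleton.2 hsub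
    omega
  have hzok : Ok q (0 : F) z0 := by simpa [Ok, q_ne_zero hF] using hz0
  obtain ⟨z, hz⟩ := exists_U hF hfr hzok
  have hxU : x ∈ Usub hF hfr := ⟨_, _, Γ.hβ, Γ.hx⟩
  have hyU : y ∈ Usub hF hfr := ⟨_, _, hb1, hy⟩
  have hzU : z ∈ Usub hF hfr := ⟨_, _, hzok, hz⟩
  have zline : ∀ (g : SU 3 F q) (a b : F), Ok q a b → a = 0 → fmat q u w f g = Umat q a b →
      ∃ k : ℕ, g = z ^ k := by
    intro g a b hab ha hg
    subst ha
    have hb : b + b ^ q = 0 := by simpa [Ok, q_ne_zero hF] using hab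
    obtain ⟨k, -, hk⟩ := hfix (b / z0) (by
      rw [div_pow, eq_neg_of_add_eq_zero_right hb, eq_neg_of_add_eq_zero_right hz0, neg_div_neg_eq])
    obtain ⟨B, -, e, hB⟩ := pow_coord hF hfr hzok hz k
    refine ⟨k, fmat_inj hF hfr ?_⟩
    rw [e, hg, hB rfl, mul_zero, ← hk, div_mul_cancel₀ _ hz0ne]
  have hU : ∀ g ∈ Usub hF hfr, ∃ i j k : ℕ, g = x ^ i * y ^ j * z ^ k := by
    intro g hg
    obtain ⟨a, b, hab, e⟩ := id hg
    have hsurj : Function.Surjective fun v : Fin q × Fin q => ((v.1.val : F) + (v.2.val : F) * P.ζ) := by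
      refine ((Fintype.bijective_iff_injective_and_card _).2 ⟨fun v v' h => ?_, ?_⟩).2
      · obtain ⟨i, j⟩ := v
        obtain ⟨i', j'⟩ := v'
        dsimp only at h
        have hj : (j.val : F) = (j'.val : F) := by
          by_contra hne
          have hd : (j.val : F) - (j'.val : F) ≠ 0 := sub_ne_zero.2 hne
          refine zeta_q_ne hF P ?_
          have hζ : P.ζ = ((i'.val : F) - (i.val : F)) / ((j.val : F) - (j'.val : F)) := by
            rw [eq_div_iff hd]
            linear_combination h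
          rw [hζ, div_pow, sub_pow_q hF, sub_pow_q hF]
          simp only [natCast_fixed hF]
        have hi : (i.val : F) = (i'.val : F) := by linear_combination h - P.ζ * hj
        exact Prod.ext (Fin.ext (hinj _ _ i.2 i'.2 hi)) (Fin.ext (hinj _ _ j.2 j'.2 hj))
      · rw [Fintype.card_prod, Fintype.card_fin, hF, pow_two]
    obtain ⟨⟨i, j⟩, hij⟩ := hsurj a
    obtain ⟨Bx, hBx, ex, -⟩ := pow_coord hF hfr Γ.hβ Γ.hx i.val
    obtain ⟨By, hBy, ey, -⟩ := pow_coord hF hfr hb1 hy j.val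
    have hxy : x ^ i.val * y ^ j.val ∈ Usub hF hfr := mul_mem (pow_mem hxU _) (pow_mem hyU _)
    obtain ⟨A, B, hAB, e'⟩ : (x ^ i.val * y ^ j.val)⁻¹ * g ∈ Usub hF hfr :=
      mul_mem (inv_mem hxy) hg
    have hA : A = 0 := by
      have h1 : fmat q u w f g = fmat q u w f (x ^ i.val * y ^ j.val) *
          fmat q u w f ((x ^ i.val * y ^ j.val)⁻¹ * g) := by
        rw [← fmat_mul hF hfr, mul_inv_cancel_left]
      rw [e, e', fmat_mul hF hfr, ex, ey, Umat_mul hF, Umat_mul hF] at h1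
      have h2 := congrFun (congrFun h1 0) 1
      simp [Umat] at h2
      simp only at hij
      linear_combination (-1 : F) * h2 - hij
    obtain ⟨k, hk⟩ := zline _ A B hAB hA e'
    exact ⟨i.val, j.val, k, by rw [← hk, mul_inv_cancel_left]⟩
  -- words
  let Φ : Fin 5 → SU 3 F q := ![x, y, z, h, t]
  let fx : FreeGroup (Fin 5) := FreeGroup.of 0
  let fy : FreeGroup (Fin 5) := FreeGroup.of 1
  let fz : FreeGroup (Fin 5) := FreeGroup.of 2
  let fh : FreeGroup (Fin 5) := FreeGroup.of 3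
  let ft : FreeGroup (Fin 5) := FreeGroup.of 4
  let e := FreeGroup.lift Φ
  have ex : e fx = x := FreeGroup.lift_apply_of
  have ey : e fy = y := FreeGroup.lift_apply_of
  have ez : e fz = z := FreeGroup.lift_apply_of
  have eh : e fh = h := FreeGroup.lift_apply_of
  have et : e ft = t := FreeGroup.lift_apply_of
  set Wf : Subgroup (FreeGroup (Fin 5)) := Subgroup.closure {fx, fy, fz}
  have liftW : ∀ g ∈ Usub hF hfr, ∃ v ∈ Wf, e v = g := by
    intro g hg
    obtain ⟨i, j, k, rfl⟩ := hU g hg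
    exact ⟨fx ^ i * fy ^ j * fz ^ k, mul_mem (mul_mem (pow_mem (Subgroup.subset_closure (by simp)) _)
      (pow_mem (Subgroup.subset_closure (by simp)) _)) (pow_mem (Subgroup.subset_closure (by simp)) _),
      by simp only [map_mul, map_pow, ex, ey, ez]⟩
  have hconj : ∀ g ∈ Usub hF hfr, h * g * h⁻¹ ∈ Usub hF hfr := by
    rintro g ⟨a, b, hab, eg⟩
    refine ⟨_, _, ?_, by simpa using fmat_conj hF hfr Γ eg 1⟩
    have := Ok.scale hF hab P.kap
    rwa [P.kap_norm hF] at this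
  obtain ⟨wx, hwx, ewx⟩ := liftW _ (hconj x hxU)
  obtain ⟨wy, hwy, ewy⟩ := liftW _ (hconj y hyU)
  obtain ⟨wz, hwz, ewz⟩ := liftW _ (hconj z hzU)
  obtain ⟨cxq, hcxq⟩ : ∃ c, x ^ q = z ^ c := by
    obtain ⟨B, hB, eq', -⟩ := pow_coord hF hfr Γ.hβ Γ.hx q
    exact zline _ _ B hB (by rw [hq0, zero_mul]) eq'
  obtain ⟨cyq, hcyq⟩ : ∃ c, y ^ q = z ^ c := by
    obtain ⟨B, hB, eq', -⟩ := pow_coord hF hfr hb1 hy q
    exact zline _ _ B hB (by rw [hq0, zero_mul]) eq'
  obtain ⟨cyx, hcyx⟩ : ∃ c, y * x = x * y * z ^ c := by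
    obtain ⟨A, B, hAB, e'⟩ : (x * y)⁻¹ * (y * x) ∈ Usub hF hfr :=
      mul_mem (inv_mem (mul_mem hxU hyU)) (mul_mem hyU hxU)
    obtain ⟨k, hk⟩ := zline _ A B hAB (by
      have h1 : fmat q u w f (y * x) = fmat q u w f (x * y) *
          fmat q u w f ((x * y)⁻¹ * (y * x)) := by
        rw [← fmat_mul hF hfr, mul_inv_cancel_left]
      rw [e', fmat_mul hF hfr, fmat_mul hF hfr, Γ.hx, hy, Umat_mul hF, Umat_mul hF, Umat_mul hF] at h1
      have h2 := congrFun (congrFun h1 0) 1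
      simp [Umat] at h2
      linear_combination (-1 : F) * h2) e'
    exact ⟨k, by rw [← hk, mul_inv_cancel_left]⟩
  let S : Finset (Fin (q + 1) × F) := Finset.univ.filter fun p => Ok q p.2 (P.ζ ^ p.1.val)
  have hScard : S.card ≤ (q + 1) * (q + 1) := by
    refine le_trans (Finset.card_le_mul_card_image (f := Prod.fst) S (q + 1) fun k _ => ?_)
      (Nat.mul_le_mul_left _ ((Finset.card_le_univ _).trans (by rw [Fintype.card_fin])))
    refine le_trans ?_ ((Multiset.toFinset_card_le _).trans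
      (Polynomial.card_nthRoots (q + 1) (-(P.ζ ^ k.val + (P.ζ ^ k.val) ^ q))))
    refine Finset.card_le_card_of_injOn Prod.snd (fun p hp => ?_) fun p hp p' hp' h => ?_
    · simp only [Finset.coe_filter, Set.mem_setOf_eq, S, Finset.mem_filter, Finset.mem_univ,
        true_and] at hp
      obtain ⟨hok, rfl⟩ := hp
      simp only [Finset.mem_coe, Multiset.mem_toFinset, Polynomial.mem_nthRoots (Nat.succ_pos q)]
      have hok' : P.ζ ^ p.1.val + (P.ζ ^ p.1.val) ^ q + p.2 * p.2 ^ q = 0 := hok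
      rw [pow_succ']
      linear_combination hok'
    · simp only [Finset.coe_filter, Set.mem_setOf_eq] at hp hp'
      exact Prod.ext (hp.2.trans hp'.2.symm) h
  have hseed : ∀ p : Fin (q + 1) × F, p ∈ S → ∃ v ∈ Wf, ∃ v1 ∈ Wf, ∃ v2 ∈ Wf,
      fmat q u w f (e v) = Umat q p.2 (P.ζ ^ p.1.val) ∧
      e (ft * v * ft) = e (v1 * ft * fh ^ p.1.val * v2) := by
    intro p hp
    have hok : Ok q p.2 (P.ζ ^ p.1.val) := (Finset.mem_filter.1 hp).2
    have hb : P.ζ ^ p.1.val ≠ 0 := pow_ne_zero _ P.ne0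
    obtain ⟨g, hg⟩ := exists_U hF hfr hok
    obtain ⟨g1, hg1⟩ := exists_U hF hfr (Ok.left' hF hok hb)
    obtain ⟨g2, hg2⟩ := exists_U hF hfr (Ok.right' hF hok hb)
    obtain ⟨v, hv, rfl⟩ := liftW g ⟨_, _, hok, hg⟩
    obtain ⟨v1, hv1, rfl⟩ := liftW g1 ⟨_, _, Ok.left' hF hok hb, hg1⟩
    obtain ⟨v2, hv2, rfl⟩ := liftW g2 ⟨_, _, Ok.right' hF hok hb, hg2⟩
    refine ⟨v, hv, v1, hv1, v2, hv2, hg, fmat_inj hF hfr ?_⟩
    rw [map_mul, map_mul, map_mul, map_mul, map_mul, map_pow, et, eh, fmat_mul hF hfr,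
      fmat_mul hF hfr, fmat_mul hF hfr, fmat_mul hF hfr, fmat_mul hF hfr, hg, hg1, hg2, Γ.ht,
      fmat_pow hF hfr Γ]
    exact tut hF hok hb
  choose! sv hsv sv1 hsv1 sv2 hsv2 hsm hse using hseed
  let sd : Fin (q + 1) × F → FreeGroup (Fin 5) × FreeGroup (Fin 5) := fun p =>
    (ft * sv p * ft, sv1 p * ft * fh ^ p.1.val * sv2 p)
  let L : List (FreeGroup (Fin 5) × FreeGroup (Fin 5)) :=
    [(ft * ft, 1), (ft * fh * ft, (fh ^ q)⁻¹), (fx * fz, fz * fx), (fy * fz, fz * fy),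
      (fz ^ q, 1), (fy * fx, fx * fy * fz ^ cyx), (fx ^ q, fz ^ cxq), (fy ^ q, fz ^ cyq),
      (fh * fx * fh⁻¹, wx), (fh * fy * fh⁻¹, wy), (fh * fz * fh⁻¹, wz)] ++ S.toList.map sd
  have hlen : L.length ≤ 11 + (q + 1) * (q + 1) := by
    simp only [L, List.length_append, List.length_map, Finset.length_toList, List.length_cons,
      List.length_nil]
    omega
  refine HasPres.of_list L hlen Φ ?_ ?_ ?_
  · rw [eq_top_iff, ← gens_top_prime hF hfr Γ hp h2]
    refine Subgroup.closure_mono ?_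
    rintro _ ⟨i, rfl⟩
    fin_cases i
    exacts [⟨0, rfl⟩, ⟨3, rfl⟩, ⟨4, rfl⟩]
  · intro r hr
    simp only [L, List.mem_append, List.mem_cons, List.not_mem_nil, or_false, List.mem_map,
      Finset.mem_toList] at hr
    rcases hr with (rfl | rfl | rfl | rfl | rfl | rfl | rfl | rfl | rfl | rfl | rfl) | ⟨p, hp', rfl⟩ <;>
      show e _ = e _
    · refine fmat_inj hF hfr ?_
      rw [map_mul, map_one, et, fmat_mul hF hfr, Γ.ht, fmat_one hF hfr, Tmat_sq]
    · rw [map_mul, map_mul, map_inv, map_pow, et, eh]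
      refine eq_inv_of_mul_eq_one_left (fmat_inj hF hfr ?_)
      rw [fmat_mul hF hfr, fmat_mul hF hfr, fmat_mul hF hfr, Γ.ht, Γ.hh, fmat_pow hF hfr Γ,
        Tmat_Dmat hF P.ne0, Dmat_mul, one_div_mul_cancel P.zq_ne, Dmat_one, fmat_one hF hfr]
    · refine fmat_inj hF hfr ?_
      rw [map_mul, map_mul, ex, ez, fmat_mul hF hfr, fmat_mul hF hfr, Γ.hx, hz, Umat_mul hF,
        Umat_mul hF]
      congr 1
      · ring
      · simp [q_ne_zero hF]; ring
    · refine fmat_inj hF hfr ?_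
      rw [map_mul, map_mul, ey, ez, fmat_mul hF hfr, fmat_mul hF hfr, hy, hz, Umat_mul hF,
        Umat_mul hF]
      congr 1
      · ring
      · simp [q_ne_zero hF]; ring
    · obtain ⟨B, -, eq', hB⟩ := pow_coord hF hfr hzok hz q
      refine fmat_inj hF hfr ?_
      rw [map_pow, map_one, ez, eq', hB rfl, fmat_one hF hfr, mul_zero, hq0, zero_mul, Umat_zero hF]
    · rw [map_mul, map_mul, map_mul, map_pow, ex, ey, ez, hcyx]
    · rw [map_pow, map_pow, ex, ez, hcxq]
    · rw [map_pow, map_pow, ey, ez, hcyq]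
    · rw [map_mul, map_mul, map_inv, eh, ex, ewx]
    · rw [map_mul, map_mul, map_inv, eh, ey, ewy]
    · rw [map_mul, map_mul, map_inv, eh, ez, ewz]
    · exact hse p hp'
  · intro G _ π hπ hrels θ hθ
    have hval : ∀ v, θ (π v) = e v := fun v => DFunLike.congr_fun hθ v
    have hL : ∀ a b, (a, b) ∈ L → π a = π b := fun a b hab => hrels (a, b) hab
    have hmap : ∀ v ∈ Wf, π v ∈ Subgroup.closure ({π fx, π fy, π fz} : Set G) := by
      intro v hv
      have := Subgroup.mem_map_of_mem π hv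
      rwa [MonoidHom.map_closure, Set.image_insert_eq, Set.image_insert_eq, Set.image_singleton] at this
    have r1 : π ft * π ft = 1 := by
      rw [← map_mul, hL (ft * ft) 1 (by simp [L]), map_one]
    refine injective_of_srels hF hfr Γ hU hxU hyU hzU (X := π fx) (Y := π fy) (Z := π fz) (H := π fh)
      (T := π ft) (by rw [hval, ex]) (by rw [hval, ey]) (by rw [hval, ez]) (by rw [hval, eh])
      (by rw [hval, et]) ⟨r1, ?_, ?_, ?_, ?_, ?_, ?_, ?_, ?_, ?_, ?_⟩
    · rw [← map_mul, ← map_mul, hL (ft * fh * ft) ((fh ^ q)⁻¹) (by simp [L]), map_inv, map_pow]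
    · show _ * _ = _ * _
      rw [← map_mul, ← map_mul, hL _ _ (by simp [L] : (fx * fz, fz * fx) ∈ L)]
    · show _ * _ = _ * _
      rw [← map_mul, ← map_mul, hL _ _ (by simp [L] : (fy * fz, fz * fy) ∈ L)]
    · rw [← map_pow, hL _ 1 (by simp [L] : (fz ^ q, (1 : FreeGroup (Fin 5))) ∈ L), map_one]
    · exact ⟨cyx, by rw [← map_mul, hL _ _ (by simp [L] : (fy * fx, fx * fy * fz ^ cyx) ∈ L), map_mul,
        map_mul, map_pow]⟩
    · exact ⟨cxq, by rw [← map_pow, hL _ _ (by simp [L] : (fx ^ q, fz ^ cxq) ∈ L), map_pow]⟩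
    · exact ⟨cyq, by rw [← map_pow, hL _ _ (by simp [L] : (fy ^ q, fz ^ cyq) ∈ L), map_pow]⟩
    · rintro g (rfl | rfl | rfl) <;> rw [← map_mul, ← map_inv, ← map_mul]
      · rw [hL _ _ (by simp [L] : (fh * fx * fh⁻¹, wx) ∈ L)]; exact hmap _ hwx
      · rw [hL _ _ (by simp [L] : (fh * fy * fh⁻¹, wy) ∈ L)]; exact hmap _ hwy
      · rw [hL _ _ (by simp [L] : (fh * fz * fh⁻¹, wz) ∈ L)]; exact hmap _ hwz
    · intro k hk a ha
      set p : Fin (q + 1) × F := (⟨k, Nat.lt_succ_of_le hk⟩, a)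
      have hpS : p ∈ S := Finset.mem_filter.2 ⟨Finset.mem_univ _, ha⟩
      refine ⟨π (sv p), hmap _ (hsv p hpS), by rw [hval]; exact hsm p hpS, π (sv1 p),
        hmap _ (hsv1 p hpS), π (sv2 p), hmap _ (hsv2 p hpS), k, ?_⟩
      rw [← map_mul, ← map_mul, hL (sd p).1 (sd p).2 (List.mem_append_right _
        (List.mem_map_of_mem (Finset.mem_toList.2 hpS)))]
      simp only [sd, map_mul, map_pow]
      rfl
    · have e' : ({π fx, π fy, π fz, π fh, π ft} : Set G) =
          π '' Set.range (FreeGroup.of : Fin 5 → FreeGroup (Fin 5)) := by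
        ext v
        simp [Set.mem_image, Fin.exists_fin_succ, fx, fy, fz, fh, ft, eq_comm]
      rw [e', ← MonoidHom.map_closure, FreeGroup.closure_range_of,
        Subgroup.map_top_of_surjective _ hπ]

end Cfsg.Agent.H68.ShortSU
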